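import Cfsg.Agent.Lib.SmallSimple.BrauerLemma
import Cfsg.Agent.Lib.Block.Principal
import Cfsg.Agent.Lib.Block.Section
import Cfsg.Agent.Lib.Transfer.Comp
import Cfsg.Agent.Lib.Char.DetExt
import Cfsg.Agent.Lib.Core.Basic

/-!
# Brauer's degree congruences in the principal block, for `p` exactly dividing the group order.

Let `x` have prime order `p`, with `p^2` not dividing `|G|`, and `|N(⟨x⟩)| = e |C(x)|`.
Using block orthogonality in place of orthogonality, the numbers
`c_ν(χ) = ⟨χ|_P, ν⟩ - ⟨χ|_P, 1⟩` for `χ` in the principal block have inner products `e + [ν ~ μ]`.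
-/

set_option autoImplicit false
set_option linter.unusedSectionVars false
set_option linter.style.haveILetI false
set_option linter.unusedSimpArgs false
set_option linter.unnecessarySimpa false
set_option linter.unusedVariables false

open scoped ComplexConjugate
open Subgroup

namespace Cfsg.Agent.Lib.SmallSimple.BB

open Cfsg (classInner IsCharacter IsIrrCharacter IrrCharacter IsClassFunction indFun
  extendByZero IsGeneralizedCharacter IsPModular principalBlock IsPPart centralizerPPrimeCore pPrimeCore)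
open Cfsg.Agent.Lib.Char
open Cfsg.Agent.Lib.Block hiding tr
open Cfsg.Agent.Lib.SmallSimple.Star
open Cfsg.Agent.Lib.SmallSimple.BL
open Cfsg.Agent.Lib.Char (detHom detHom_apply)

universe u

variable {G : Type u} [Group G] {p : ℕ} {x : G}

theorem zp_gen (hp : p.Prime) (hx : orderOf x = p) {y : G} (hy : y ∈ zpowers x) (hy1 : y ≠ 1) :
    zpowers y = zpowers x := by
  have := Fact.mk hp
  have hc : Nat.card (zpowers x) = p := by rw [Nat.card_zpowers, hx]
  have : Finite (zpowers x) := by
    apply Nat.finite_of_card_ne_zero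
    rw [hc]; exact hp.ne_zero
  have hle : zpowers y ≤ zpowers x := (zpowers_le).2 hy
  refine Subgroup.eq_of_le_of_card_ge hle ?_
  rw [hc]
  have hdvd : Nat.card (zpowers y) ∣ p := by
    have := Subgroup.card_dvd_of_le hle
    rwa [hc] at this
  rcases (Nat.dvd_prime hp).1 hdvd with h1 | h2
  · exfalso
    apply hy1
    have := Subgroup.eq_bot_of_card_eq _ h1
    exact (zpowers_eq_bot.1 this)
  · exact h2.ge

theorem orderOf_of_mem (hp : p.Prime) (hx : orderOf x = p) {y : G} (hy : y ∈ zpowers x) (hy1 : y ≠ 1) :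
    orderOf y = p := by
  rw [← Nat.card_zpowers, zp_gen hp hx hy hy1, Nat.card_zpowers, hx]

/-- A non-trivial element of `⟨x⟩` conjugated into `⟨x⟩`: the conjugator normalizes. -/
theorem mem_normalizer_of_conj' (hp : p.Prime) (hx : orderOf x = p) {u : G} (hu : u ∈ zpowers x)
    (hu1 : u ≠ 1) {g : G} (hg : g * u * g⁻¹ ∈ zpowers x) :
    g ∈ normalizer ((zpowers x : Subgroup G) : Set G) := by
  have h1 : zpowers u = zpowers x := zp_gen hp hx hu hu1
  have hv1 : g * u * g⁻¹ ≠ 1 := by
    intro h0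
    apply hu1
    have : u = g⁻¹ * (g * u * g⁻¹) * g := by group
    rw [this, h0]
    group
  have h2 : zpowers (g * u * g⁻¹) = zpowers x := zp_gen hp hx hg hv1
  rw [mem_normalizer_iff]
  intro y
  constructor
  · intro hy
    have hy' : y ∈ zpowers u := by rw [h1]; exact hy
    obtain ⟨k, rfl⟩ := Subgroup.mem_zpowers_iff.mp hy'
    rw [← conj_zpow]
    exact Subgroup.zpow_mem _ hg k
  · intro hy
    have hy' : g * y * g⁻¹ ∈ zpowers (g * u * g⁻¹) := by rw [h2]; exact hy
    obtain ⟨k, hk⟩ := Subgroup.mem_zpowers_iff.mp hy'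
    rw [conj_zpow] at hk
    have h3 : y = u ^ k := by
      have := mul_left_cancel (mul_right_cancel hk)
      exact this.symm
    rw [h3]
    exact Subgroup.zpow_mem _ hu k

/-- The centralizer of a generator. -/
theorem centralizer_eq (hp : p.Prime) (hx : orderOf x = p) {u : G} (hu : u ∈ zpowers x) (hu1 : u ≠ 1) :
    centralizer ({u} : Set G) = centralizer ({x} : Set G) := by
  have hz := zp_gen hp hx hu hu1
  have hxu : x ∈ zpowers u := by rw [hz]; exact mem_zpowers x
  apply le_antisymm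
  · intro g hg
    rw [Subgroup.mem_centralizer_singleton_iff] at hg ⊢
    obtain ⟨k, rfl⟩ := Subgroup.mem_zpowers_iff.mp hxu
    exact ((show Commute g u from hg).zpow_right k).eq
  · intro g hg
    rw [Subgroup.mem_centralizer_singleton_iff] at hg ⊢
    obtain ⟨k, rfl⟩ := Subgroup.mem_zpowers_iff.mp hu
    exact ((show Commute g x from hg).zpow_right k).eq

theorem centralizer_le_normalizer : centralizer ({x} : Set G) ≤
    normalizer ((zpowers x : Subgroup G) : Set G) := by
  intro c hc
  rw [Subgroup.mem_centralizer_singleton_iff] at hc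
  have hcomm : Commute c x := hc
  have h1 : ∀ k : ℤ, c * x ^ k * c⁻¹ = x ^ k := by
    intro k
    rw [(hcomm.zpow_right k).eq]
    group
  rw [mem_normalizer_iff]
  intro y
  constructor
  · intro hy
    obtain ⟨k, rfl⟩ := Subgroup.mem_zpowers_iff.mp hy
    rw [h1]
    exact Subgroup.zpow_mem _ (mem_zpowers _) k
  · intro hy
    obtain ⟨k, hk⟩ := Subgroup.mem_zpowers_iff.mp hy
    have h2 : y = x ^ k := by
      rw [← h1 k] at hk
      exact (mul_left_cancel (mul_right_cancel hk)).symm
    rw [h2]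
    exact Subgroup.zpow_mem _ (mem_zpowers _) k

section Irr

variable [Fintype G]

/-- A non-trivial character of `⟨x⟩` is injective. -/
theorem irr_inj' (hp : p.Prime) (hx : orderOf x = p) (μ : IrrCharacter (zpowers x))
    (hμ : (μ : zpowers x → ℂ) ≠ tr)
    {a b : zpowers x} (hab : (μ : zpowers x → ℂ) a = (μ : zpowers x → ℂ) b) : a = b := by
  by_contra hne
  apply hμ
  have hu1 : ((a * b⁻¹ : zpowers x) : G) ≠ 1 := by
    intro h0
    apply hne
    have : a * b⁻¹ = 1 := Subtype.ext h0
    exact mul_inv_eq_one.mp this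
  let φ := Cfsg.Agent.Lib.Degree.linearHom μ (deg_one μ)
  have hu : φ.toHomUnits (a * b⁻¹) = 1 := by
    apply Units.ext
    have hb : φ b * φ b⁻¹ = 1 := by rw [← map_mul, mul_inv_cancel, map_one]
    show φ (a * b⁻¹) = 1
    rw [map_mul]
    have : φ a = φ b := hab
    rw [this, hb]
  have hz := zp_gen hp hx (a * b⁻¹ : zpowers x).2 hu1
  funext v
  have hv : (v : G) ∈ zpowers ((a * b⁻¹ : zpowers x) : G) := by rw [hz]; exact v.2
  obtain ⟨k, hk⟩ := Subgroup.mem_zpowers_iff.mp hv
  have hv2 : v = (a * b⁻¹) ^ k := by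
    apply Subtype.ext
    rw [← hk]
    simp
  have h3 : φ.toHomUnits v = 1 := by
    rw [hv2, map_zpow, hu, one_zpow]
  have h4 := congrArg (fun u : ℂˣ => (u : ℂ)) h3
  have h5 : φ v = 1 := by simpa using h4
  exact h5

/-- The stabilizer of a non-trivial character of `⟨x⟩`. -/
theorem mem_of_stab' (hp : p.Prime) (hx : orderOf x = p) (μ : IrrCharacter (zpowers x))
    (hμ : (μ : zpowers x → ℂ) ≠ tr)
    (g : normalizer ((zpowers x : Subgroup G) : Set G)) (hg : (μ : zpowers x → ℂ) ∘ cj g = μ) :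
    (g : G) ∈ centralizer ({x} : Set G) := by
  have h1 := congrFun hg (⟨x, mem_zpowers x⟩ : zpowers x)
  have h2 := irr_inj' hp hx μ hμ h1
  have h3 : (g : G) * x * (g : G)⁻¹ = x := congrArg Subtype.val h2
  rw [Subgroup.mem_centralizer_singleton_iff]
  exact mul_inv_eq_iff_eq_mul.mp h3

/-- The elements of the normalizer which move `b` to `a`. -/
theorem card_fiber' (hp : p.Prime) (hx : orderOf x = p) (a b : IrrCharacter (zpowers x))
    (hb : (b : zpowers x → ℂ) ≠ tr) (hab : Rel a b) :
    Nat.card {g : normalizer ((zpowers x : Subgroup G) : Set G) //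
      (b : zpowers x → ℂ) ∘ cj g = a} = Nat.card (centralizer ({x} : Set G)) := by
  classical
  obtain ⟨g₀, hg₀⟩ := hab
  have hle : ∀ u : centralizer ({x} : Set G), (u : G) ∈ normalizer ((zpowers x : Subgroup G) : Set G) :=
    fun u => centralizer_le_normalizer u.2
  have hcomm : ∀ (u : centralizer ({x} : Set G)) (v : zpowers x),
      cj (⟨u, hle u⟩ : normalizer ((zpowers x : Subgroup G) : Set G)) v = v := by
    intro u v
    apply Subtype.ext
    simp only [cj_coe]
    obtain ⟨k, hk⟩ := Subgroup.mem_zpowers_iff.mp v.2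
    have hc : Commute (u : G) x := Subgroup.mem_centralizer_singleton_iff.mp u.2
    rw [← hk, (hc.zpow_right k).eq]
    group
  let f : centralizer ({x} : Set G) → {g : normalizer ((zpowers x : Subgroup G) : Set G) //
      (b : zpowers x → ℂ) ∘ cj g = a} := fun u => ⟨⟨u, hle u⟩ * g₀, by
    rw [← hg₀]
    funext v
    simp only [Function.comp, cj_mul, hcomm]⟩
  refine (Nat.card_eq_of_bijective f ⟨?_, ?_⟩).symm
  · intro u v huv
    have h1 := congrArg Subtype.val huv
    have h2 := mul_right_cancel h1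
    have h3 : (u : G) = v := congrArg (fun t : normalizer ((zpowers x : Subgroup G) : Set G) => (t : G)) h2
    exact Subtype.ext h3
  · rintro ⟨g, hg⟩
    have h1 : (b : zpowers x → ℂ) ∘ cj (g * g₀⁻¹) = b := by
      funext v
      have h2 := congrFun (hg.trans hg₀.symm) (cj g₀⁻¹ v)
      simp only [Function.comp, cj_cj_inv] at h2
      simp only [Function.comp, cj_mul]
      exact h2
    have h3 := mem_of_stab' hp hx b hb _ h1
    refine ⟨⟨_, h3⟩, ?_⟩
    apply Subtype.ext
    apply Subtype.ext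
    simp [f]

/-- The orbit of a nontrivial character. -/
theorem card_orbit' (hp : p.Prime) (hx : orderOf x = p) (a : Nt x) :
    Nat.card (normalizer ((zpowers x : Subgroup G) : Set G)) =
      Nat.card {b : Nt x // Rel a.1 b.1} * Nat.card (centralizer ({x} : Set G)) := by
  classical
  let f : normalizer ((zpowers x : Subgroup G) : Set G) → {b : Nt x // Rel a.1 b.1} := fun g =>
    ⟨⟨⟨(a.1 : zpowers x → ℂ) ∘ cj g⁻¹, irr_twist g⁻¹ a.1.2⟩, by
      have hr : Rel a.1 (⟨(a.1 : zpowers x → ℂ) ∘ cj g⁻¹, irr_twist g⁻¹ a.1.2⟩ :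
          IrrCharacter (zpowers x)) := ⟨g, by
        funext u
        simp [cj_inv_cj]⟩
      exact ne_triv_of_rel a.2 hr⟩, ⟨g, by
        funext u
        simp [cj_inv_cj]⟩⟩
  refine Lib.SmallSimple.card_eq_of_fibers f _ ?_
  rintro ⟨⟨b, hb⟩, hab⟩
  rw [← card_fiber' hp hx a.1 b (ne_tr_of_ne b hb) hab]
  apply Nat.card_congr
  refine Equiv.subtypeEquivRight fun g => ?_
  constructor
  · intro hg
    have h1 : (a.1 : zpowers x → ℂ) ∘ cj g⁻¹ = b := by
      have := congrArg (fun t : {b : Nt x // Rel a.1 b.1} => ((t.1.1 : IrrCharacter (zpowers x)) : zpowers x → ℂ)) hg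
      exact this
    rw [← h1]
    funext u
    simp [cj_inv_cj]
  · intro hg
    apply Subtype.ext
    apply Subtype.ext
    apply Subtype.ext
    show (a.1 : zpowers x → ℂ) ∘ cj g⁻¹ = b
    rw [← hg]
    funext u
    simp [cj_cj_inv]

theorem card_nt' (hp : p.Prime) (hx : orderOf x = p) : Nat.card (Nt x) + 1 = p := by
  classical
  haveI : Fintype (zpowers x) := Fintype.ofFinite _
  have h1 := sum_degree_sq (G := zpowers x)
  simp only [deg_one, one_pow] at h1
  rw [Finset.sum_const, Finset.card_univ, nsmul_eq_mul, mul_one, Nat.card_zpowers, hx] at h1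
  have h2 : Fintype.card (IrrCharacter (zpowers x)) = p := by exact_mod_cast h1
  have h3 : Nat.card (Nt x) = Fintype.card (IrrCharacter (zpowers x)) - 1 := by
    rw [Nat.card_eq_fintype_card, Fintype.card_subtype_compl]
    simp
  have := hp.pos
  omega

end Irr

section Lattice

variable {I A : Type*} [Fintype I] [DecidableEq I]

/-- A vector of norm three with value `-1` at a point of degree one, and degree zero. -/
theorem norm_three_split (v d : I → ℤ) (one : I) (hd : ∀ i, 0 < d i) (hd1 : d one = 1)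
    (h3 : ip v v = 3) (h0 : ip v d = 0) (hone : v one = -1) :
    ∃ X Y, X ≠ Y ∧ X ≠ one ∧ Y ≠ one ∧ v = dl X - dl Y - dl one ∧ d X = d Y + 1 := by
  have hw2 : ip (v + dl one) (v + dl one) = 2 := by
    rw [ip_add_left, ip_add_right, ip_add_right, ip_dl_right, ip_dl_left, ip_dl_dl, h3, hone]
    simp
  have hwd : ip (v + dl one) d = 1 := by
    rw [ip_add_left, h0, ip_dl_left, hd1]
    simp
  set w := v + dl one with hw
  obtain ⟨X, Y, hXY, hX, hY, hrest⟩ := exists_of_norm_two w hw2
  have hw1 : w one = 0 := by simp [w, hone, dl]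
  have hX1 : X ≠ one := by
    rintro rfl
    rw [hw1] at hX
    omega
  have hY1 : Y ≠ one := by
    rintro rfl
    rw [hw1] at hY
    omega
  have hval : ip w d = w X * d X + w Y * d Y := by
    unfold ip
    rw [← Finset.sum_subset (Finset.subset_univ {X, Y}), Finset.sum_pair hXY]
    intro i _ hi
    simp only [Finset.mem_insert, Finset.mem_singleton, not_or] at hi
    rw [hrest i hi.1 hi.2, zero_mul]
  rw [hval] at hwd
  have hdX := hd X
  have hdY := hd Y
  have hvv : ∀ X Y : I, X ≠ Y → X ≠ one → Y ≠ one → w X = 1 → w Y = -1 →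
      (∀ i, i ≠ X → i ≠ Y → w i = 0) → v = dl X - dl Y - dl one := by
    intro X Y hXY hX1 hY1 h3 h4 hrest
    have hvw : v = w - dl one := by simp [w]
    rw [hvw]
    congr 1
    funext i
    simp only [Pi.sub_apply, dl]
    by_cases hiX : i = X
    · subst hiX
      simp [hXY, h3]
    · by_cases hiY : i = Y
      · subst hiY
        simp [hiX, h4]
      · simp [hiX, hiY, hrest i hiX hiY]
  rcases hX with h3 | h3 <;> rcases hY with h4 | h4 <;> rw [h3, h4] at hwd
  · exfalso; omega
  · exact ⟨X, Y, hXY, hX1, hY1, hvv X Y hXY hX1 hY1 h3 h4 hrest, by omega⟩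
  · exact ⟨Y, X, hXY.symm, hY1, hX1, hvv Y X hXY.symm hY1 hX1 h4 h3
      (fun i h5 h6 => hrest i h6 h5), by omega⟩
  · exfalso; omega

/-- The pairing of two vectors of the special form. -/
theorem two_pair {d : I → ℤ} {one X₀ Y₀ X₁ Y₁ : I} (h0 : X₀ ≠ Y₀) (h1 : X₀ ≠ one) (h2 : Y₀ ≠ one)
    (h3 : X₁ ≠ Y₁) (h4 : X₁ ≠ one) (h5 : Y₁ ≠ one) (h6 : d X₀ = d Y₀ + 1) (h7 : d X₁ = d Y₁ + 1)
    (h : ip (dl X₀ - dl Y₀ - dl one) (dl X₁ - dl Y₁ - dl one) = 2) :
    (X₀ = X₁ ∧ Y₀ ≠ Y₁) ∨ (X₀ ≠ X₁ ∧ Y₀ = Y₁) := by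
  simp only [ip_sub_left, ip_sub_right, ip_dl_dl, if_neg h1, if_neg h2, if_neg h4.symm,
    if_neg h5.symm, if_pos] at h
  norm_num at h
  have hA : X₀ ≠ Y₁ := by
    rintro rfl
    have h8 : X₀ ≠ X₁ := by
      rintro rfl
      omega
    have h9 : Y₀ ≠ X₀ := h0.symm
    rw [if_neg h8, if_pos rfl, if_neg h9] at h
    split_ifs at h <;> omega
  have hB : Y₀ ≠ X₁ := by
    rintro rfl
    have h8 : Y₀ ≠ Y₁ := by
      rintro rfl
      omega
    rw [if_neg h8, if_pos rfl, if_neg hA, if_neg h0] at h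
    omega
  rw [if_neg hA, if_neg hB] at h
  by_cases h8 : X₀ = X₁
  · left
    refine ⟨h8, fun h9 => ?_⟩
    rw [if_pos h8, if_pos h9] at h
    omega
  · right
    refine ⟨h8, ?_⟩
    by_contra h9
    rw [if_neg h8, if_neg h9] at h
    omega

/-- Common part of the family of pairs. -/
theorem common_of {P Q : A → I} {r : A → A → Prop} (hr : ∀ a b, r a b → P a = P b)
    (hn : ∀ a b, ¬ r a b → (P a = P b ∧ Q a ≠ Q b) ∨ (P a ≠ P b ∧ Q a = Q b)) {a₀ a₁ : A}
    (h : P a₀ = P a₁) (hQ : Q a₀ ≠ Q a₁) (a : A) (ha : ¬ r a₀ a) :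
    P a = P a₀ ∧ Q a ≠ Q a₀ := by
  rcases hn a₀ a ha with ⟨h1, h2⟩ | ⟨h1, h2⟩
  · exact ⟨h1.symm, h2.symm⟩
  · exfalso
    by_cases h3 : r a₁ a
    · exact h1 (h.trans (hr _ _ h3))
    · rcases hn a₁ a h3 with ⟨h4, -⟩ | ⟨-, h4⟩
      · exact h1 (h.trans h4)
      · exact hQ (h2.trans h4.symm)

/-- The structure of the vectors for `e = 2`. -/
theorem star_two [Fintype A] (c : A → I → ℤ) (d : I → ℤ) (r : A → A → Prop) [DecidableRel r]
    (one : I) (hd : ∀ i, 0 < d i) (hd1 : d one = 1) (hdeg : ∀ a, ip (c a) d = 0)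
    (hgram : ∀ a b, ip (c a) (c b) = 2 + if r a b then 1 else 0) (hrefl : ∀ a, r a a)
    (hsymm : ∀ a b, r a b → r b a)
    (hone : ∀ a, c a one = -1) (a₀ a₁ : A) (h01 : ¬ r a₀ a₁) :
    ∃ (ξ χ₀ : I) (σ : ℤ), (σ = 1 ∨ σ = -1) ∧ ξ ≠ one ∧ χ₀ ≠ one ∧ ξ ≠ χ₀ ∧
      c a₀ = σ • (dl χ₀ - dl ξ) + (- dl one) ∧ d χ₀ = d ξ + σ ∧
      (∀ a, c a ξ = - σ) ∧ (∀ a, c a χ₀ = if r a₀ a then σ else 0) := by
  have hnorm : ∀ a, ip (c a) (c a) = 3 := fun a => by
    rw [hgram, if_pos (hrefl a)]
    norm_num
  have hsame : ∀ a b, r a b → c a = c b := by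
    intro a b hab
    have : ip (c a - c b) (c a - c b) = 0 := by
      rw [ip_sub_left, ip_sub_right, ip_sub_right, hnorm, hnorm, ip_comm (c b) (c a), hgram a b,
        if_pos hab]
      ring
    exact sub_eq_zero.mp (eq_zero_of_ip_self _ this)
  choose X Y hXY hX1 hY1 hv hdd using fun a => norm_three_split (c a) d one hd hd1 (hnorm a)
    (hdeg a) (hone a)
  have hvX : ∀ a, c a (X a) = 1 := by
    intro a
    rw [hv a]
    simp [dl, hXY a, hX1 a]
  have hvY : ∀ a, c a (Y a) = -1 := by
    intro a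
    rw [hv a]
    simp [dl, (hXY a).symm, hY1 a]
  have hval : ∀ a i, c a i = (if i = X a then 1 else 0) - (if i = Y a then 1 else 0) -
      (if i = one then 1 else 0) := by
    intro a i
    rw [hv a]
    rfl
  have hrX : ∀ a b, r a b → X a = X b := by
    intro a b hab
    have h1 := hvX a
    rw [hsame a b hab, hval b, if_neg (hX1 a)] at h1
    by_contra hn
    rw [if_neg hn] at h1
    split_ifs at h1 <;> omega
  have hrY : ∀ a b, r a b → Y a = Y b := by
    intro a b hab
    have h1 := hvY a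
    rw [hsame a b hab, hval b, if_neg (hY1 a)] at h1
    by_contra hn
    rw [if_neg hn] at h1
    split_ifs at h1 <;> omega
  have hpairs : ∀ a b, ¬ r a b → (X a = X b ∧ Y a ≠ Y b) ∨ (X a ≠ X b ∧ Y a = Y b) := by
    intro a b hab
    have h1 := hgram a b
    rw [if_neg hab, hv a, hv b] at h1
    exact two_pair (hXY a) (hX1 a) (hY1 a) (hXY b) (hX1 b) (hY1 b) (hdd a) (hdd b) (by simpa using h1)
  have hsm : ∀ (σ : ℤ) (ξ χ₀ : I), (∀ i, σ • (dl χ₀ - dl ξ) i = σ * ((if i = χ₀ then 1 else 0) -
      (if i = ξ then 1 else 0))) := by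
    intro σ ξ χ₀ i
    simp [dl]
  rcases hpairs a₀ a₁ h01 with ⟨h1, h2⟩ | ⟨h1, h2⟩
  · -- common positive part
    have hc := common_of (P := X) (Q := Y) hrX hpairs h1 h2
    refine ⟨X a₀, Y a₀, -1, Or.inr rfl, hX1 a₀, hY1 a₀, hXY a₀, ?_, ?_, ?_, ?_⟩
    · rw [hv a₀]
      funext i
      simp only [Pi.add_apply, Pi.sub_apply, Pi.neg_apply, Pi.smul_apply, smul_eq_mul]
      ring
    · have := hdd a₀
      omega
    · intro a
      by_cases ha : r a₀ a
      · rw [hrX _ _ ha, hvX]
        norm_num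
      · rw [← (hc a ha).1, hvX]
        norm_num
    · intro a
      by_cases ha : r a₀ a
      · rw [if_pos ha, hrY _ _ ha, hvY]
      · rw [if_neg ha, hval a, if_neg (hY1 a₀), if_neg (hc a ha).2.symm, if_neg]
        · norm_num
        · rw [(hc a ha).1]
          exact (hXY a₀).symm
  · -- common negative part
    have hc := common_of (P := Y) (Q := X) hrY (fun a b hab => by
      rcases hpairs a b hab with ⟨h3, h4⟩ | ⟨h3, h4⟩
      · exact Or.inr ⟨h4, h3⟩
      · exact Or.inl ⟨h4, h3⟩) h2 h1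
    refine ⟨Y a₀, X a₀, 1, Or.inl rfl, hY1 a₀, hX1 a₀, (hXY a₀).symm, ?_, ?_, ?_, ?_⟩
    · rw [hv a₀]
      funext i
      simp only [Pi.add_apply, Pi.sub_apply, Pi.neg_apply, Pi.smul_apply, smul_eq_mul]
      ring
    · exact hdd a₀
    · intro a
      by_cases ha : r a₀ a
      · rw [hrY _ _ ha, hvY]
      · rw [← (hc a ha).1, hvY]
    · intro a
      by_cases ha : r a₀ a
      · rw [if_pos ha, hrX _ _ ha, hvX]
      · rw [if_neg ha, hval a, if_neg (hX1 a₀), if_neg (hc a ha).2.symm, if_neg]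
        · norm_num
        · rw [(hc a ha).1]
          exact hXY a₀

end Lattice

section Block

variable [Fintype G] {M : Ideal Cfsg.AlgInt} [hp : Fact p.Prime]

/-- The centralizer of a `p`-element of order `p` has a normal `p`-complement. -/
theorem exists_complement (hx : orderOf x = p) (hsyl : ¬ p ^ 2 ∣ Nat.card G) :
    ∃ N : Subgroup (centralizer ({x} : Set G)), N.Normal ∧ ¬ p ∣ Nat.card N ∧ N.index = p ∧
      ¬ p ^ 2 ∣ Nat.card (centralizer ({x} : Set G)) := by
  classical
  have hpr := hp.out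
  let X := centralizer ({x} : Set G)
  have hxX : x ∈ X := by
    show x ∈ centralizer ({x} : Set G)
    rw [Subgroup.mem_centralizer_singleton_iff]
  let z : X := ⟨x, hxX⟩
  have hzo : orderOf z = p := by
    rw [← Subgroup.orderOf_coe]
    exact hx
  have hnsq : ¬ p ^ 2 ∣ Nat.card X := fun h => hsyl (h.trans (Subgroup.card_subgroup_dvd_card X))
  have hdvd : p ∣ Nat.card X := by
    rw [← hzo]
    exact orderOf_dvd_natCard z
  have hfact : (Nat.card X).factorization p = 1 := by
    have h1 : 1 ≤ (Nat.card X).factorization p :=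
      (hpr.dvd_iff_one_le_factorization Nat.card_pos.ne').mp hdvd
    have h2 : ¬ 2 ≤ (Nat.card X).factorization p := fun h =>
      hnsq ((hpr.pow_dvd_iff_le_factorization Nat.card_pos.ne').mpr h)
    omega
  let S : Sylow p X := Sylow.ofCard (zpowers z) (by
    rw [Nat.card_zpowers, hzo, hfact, pow_one])
  have hS : (S : Subgroup X) = zpowers z := rfl
  have hcentral : normalizer ((S : Subgroup X) : Set X) ≤ centralizer ((S : Subgroup X) : Set X) := by
    intro g _
    rw [Subgroup.mem_centralizer_iff]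
    intro y hy
    rw [hS] at hy
    obtain ⟨k, rfl⟩ := Subgroup.mem_zpowers_iff.mp hy
    have hc : Commute z g := by
      apply Subtype.ext
      have : g.1 * x = x * g.1 := Subgroup.mem_centralizer_singleton_iff.mp g.2
      exact this.symm
    exact (hc.zpow_left k).eq
  obtain ⟨N, hN, hc⟩ := Cfsg.Agent.Lib.Transfer.complement_exists_for
    (Cfsg.Agent.Lib.Transfer.hasNormalPComplement_of_burnside S hcentral) S
  have hidx : N.index = p := by
    rw [hc.symm.index_eq_card, hS, Nat.card_zpowers, hzo]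
  have hcard : Nat.card N * p = Nat.card X := by
    rw [← hidx]
    exact N.card_mul_index
  refine ⟨N, hN, ?_, hidx, hnsq⟩
  intro hd
  apply hnsq
  rw [← hcard, pow_two]
  exact Nat.mul_dvd_mul_right hd p

open Classical in
/-- Sum of squares on the section of `u`. -/
theorem section_sum_self (hM : IsPModular p M) (hx : orderOf x = p) (hsyl : ¬ p ^ 2 ∣ Nat.card G)
    {u : G} (hu : u ∈ zpowers x) (hu1 : u ≠ 1) :
    ∑ χ : IrrCharacter G, (if χ ∈ principalBlock M G then
      conj ((χ : G → ℂ) u) * (χ : G → ℂ) u else 0) = (p : ℂ) := by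
  have hpr := hp.out
  have huo : orderOf u = p := orderOf_of_mem hpr hx hu hu1
  have hz : ∃ k, orderOf u = p ^ k := ⟨1, by rw [huo, pow_one]⟩
  haveI : Fintype (centralizer ({u} : Set G)) := Fintype.ofFinite _
  have h1 := sum_principal_section hM hz (1 : centralizer ({u} : Set G))
    (by simpa using hpr.one_lt.ne')
  simp only [OneMemClass.coe_one, mul_one] at h1
  rw [h1]
  obtain ⟨N, hN, hN', hidx, hnsq⟩ := exists_complement (p := p) (x := u) huo hsyl
  haveI : Fintype N := Fintype.ofFinite _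
  have h2 := sum_principal_pNilpotent hM N hN' ⟨1, by rw [hidx, pow_one]⟩
    (1 : centralizer ({u} : Set G)) (by simpa using hpr.one_lt.ne')
  rw [h2]
  have hfact : (Nat.card (centralizer ({u} : Set G))).factorization p = 1 := by
    have h3 : Nat.card N * N.index = Nat.card (centralizer ({u} : Set G)) := N.card_mul_index
    rw [hidx] at h3
    rw [← h3, Nat.factorization_mul Nat.card_pos.ne' hpr.ne_zero, Finsupp.add_apply,
      Nat.factorization_eq_zero_of_not_dvd hN', hpr.factorization]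
    simp
  rw [hfact, pow_one]

open Classical in
/-- Block orthogonality on `⟨x⟩`. -/
theorem orth_count (hM : IsPModular p M) (hx : orderOf x = p) (hsyl : ¬ p ^ 2 ∣ Nat.card G)
    (u v : zpowers x) (hu1 : u ≠ 1) (hv1 : v ≠ 1) :
    (∑ χ : IrrCharacter G, (if χ ∈ principalBlock M G then
      conj ((χ : G → ℂ) u) * (χ : G → ℂ) v else 0)) * (Nat.card (centralizer ({x} : Set G)) : ℂ) =
    (p : ℂ) * ((Finset.univ.filter fun g : normalizer ((zpowers x : Subgroup G) : Set G) =>
      cj g u = v).card : ℂ) := by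
  have hpr := hp.out
  have hu1' : (u : G) ≠ 1 := fun h => hu1 (Subtype.ext h)
  have hv1' : (v : G) ≠ 1 := fun h => hv1 (Subtype.ext h)
  have huo := orderOf_of_mem hpr hx u.2 hu1'
  have hvo := orderOf_of_mem hpr hx v.2 hv1'
  by_cases hc : IsConj (u : G) (v : G)
  · -- conjugate: the character values agree
    have h1 : ∀ χ : IrrCharacter G, (χ : G → ℂ) v = (χ : G → ℂ) u := fun χ =>
      (IsCharacter.map_isConj (IsIrrCharacter.isCharacter χ.2) hc).symm
    simp only [h1]
    rw [section_sum_self hM hx hsyl u.2 hu1']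
    congr 1
    obtain ⟨g, hg⟩ := isConj_iff.mp hc
    have hgN : g ∈ normalizer ((zpowers x : Subgroup G) : Set G) :=
      mem_normalizer_of_conj' hpr hx u.2 hu1' (by rw [hg]; exact v.2)
    -- the count
    have hcount : (Finset.univ.filter fun g : normalizer ((zpowers x : Subgroup G) : Set G) =>
        cj g u = v).card = Nat.card (centralizer ({x} : Set G)) := by
      have hle : ∀ c : centralizer ({x} : Set G),
          (c : G) ∈ normalizer ((zpowers x : Subgroup G) : Set G) :=
        fun c => centralizer_le_normalizer c.2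
      have hcu : ∀ c : centralizer ({x} : Set G), (c : G) * u * (c : G)⁻¹ = u := by
        intro c
        obtain ⟨k, hk⟩ := Subgroup.mem_zpowers_iff.mp u.2
        have hcc : Commute (c : G) x := Subgroup.mem_centralizer_singleton_iff.mp c.2
        rw [← hk, (hcc.zpow_right k).eq]
        group
      rw [← Fintype.card_subtype, ← Nat.card_eq_fintype_card]
      let f : centralizer ({x} : Set G) → {g' : normalizer ((zpowers x : Subgroup G) : Set G) //
          cj g' u = v} := fun c => ⟨⟨g, hgN⟩ * ⟨c, hle c⟩, by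
        rw [cj_mul]
        have : cj (⟨c, hle c⟩ : normalizer ((zpowers x : Subgroup G) : Set G)) u = u :=
          Subtype.ext (hcu c)
        rw [this]
        exact Subtype.ext hg⟩
      refine (Nat.card_eq_of_bijective f ⟨?_, ?_⟩).symm
      · intro c c' hcc
        have h2 := congrArg Subtype.val hcc
        have h3 := mul_left_cancel h2
        have h4 : (c : G) = c' :=
          congrArg (fun t : normalizer ((zpowers x : Subgroup G) : Set G) => (t : G)) h3
        exact Subtype.ext h4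
      · rintro ⟨g', hg'⟩
        have h2 : g⁻¹ * (g' : G) * u * (g⁻¹ * (g' : G))⁻¹ = u := by
          have h3 : (g' : G) * u * (g' : G)⁻¹ = v := congrArg Subtype.val hg'
          have h4 : g⁻¹ * (g' : G) * u * (g⁻¹ * (g' : G))⁻¹ = g⁻¹ * ((g' : G) * u * (g' : G)⁻¹) * g := by
            group
          rw [h4, h3, ← hg]
          group
        have h5 : g⁻¹ * (g' : G) ∈ centralizer ({x} : Set G) := by
          rw [← centralizer_eq hpr hx u.2 hu1', Subgroup.mem_centralizer_singleton_iff]
          exact mul_inv_eq_iff_eq_mul.mp h2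
        refine ⟨⟨_, h5⟩, ?_⟩
        apply Subtype.ext
        apply Subtype.ext
        simp [f]
    rw [hcount]
  · -- not conjugate
    haveI := isPModular_isPrime hM
    have hBu : Cfsg.Agent.Lib.Block.IsBlockUnion M (principalBlock M G) :=
      isBlockUnion_of_isPBlock (isPBlock_blockOf (oneIrr G))
    have h1 := block_orthogonality hM (g := (v : G)) (h := (u : G)) (x := (v : G)) (y := (u : G))
      ⟨1, mul_one _, Commute.one_right _, ⟨1, by rw [hvo, pow_one]⟩, by simpa using hpr.one_lt.ne'⟩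
      ⟨1, mul_one _, Commute.one_right _, ⟨1, by rw [huo, pow_one]⟩, by simpa using hpr.one_lt.ne'⟩
      (fun h => hc h.symm) hBu
    rw [finsum_mem_irr] at h1
    have h2 : (∑ χ : IrrCharacter G, (if χ ∈ principalBlock M G then
        conj ((χ : G → ℂ) u) * (χ : G → ℂ) v else 0)) = 0 := by
      refine Eq.trans (Finset.sum_congr rfl fun χ _ => ?_) h1
      by_cases hχ : χ ∈ principalBlock M G
      · rw [if_pos hχ, if_pos hχ, mul_comm,
          IsCharacter.map_inv' (IsIrrCharacter.isCharacter χ.2)]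
      · simp only [if_neg hχ]
    rw [h2, zero_mul]
    have h3 : (Finset.univ.filter fun g : normalizer ((zpowers x : Subgroup G) : Set G) =>
        cj g u = v) = ∅ := by
      rw [Finset.filter_eq_empty_iff]
      intro g _ hg
      apply hc
      have h4 : (g : G) * u * (g : G)⁻¹ = v := congrArg Subtype.val hg
      exact isConj_iff.mpr ⟨g, h4⟩
    rw [h3]
    simp

open Classical in
/-- Orthogonality of a non-trivial element of `⟨x⟩` with a `p`-regular element. -/
theorem orth_regular (hM : IsPModular p M) (hx : orderOf x = p) {u : G} (hu : u ∈ zpowers x) (hu1 : u ≠ 1)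
    {g : G} (hg : ¬ p ∣ orderOf g) :
    ∑ χ : IrrCharacter G, (if χ ∈ principalBlock M G then
      conj ((χ : G → ℂ) u) * (χ : G → ℂ) g else 0) = 0 := by
  have hpr := hp.out
  have huo := orderOf_of_mem hpr hx hu hu1
  haveI := isPModular_isPrime hM
  have hBu : Cfsg.Agent.Lib.Block.IsBlockUnion M (principalBlock M G) :=
    isBlockUnion_of_isPBlock (isPBlock_blockOf (oneIrr G))
  have h1 := block_orthogonality hM (g := g) (h := u) (x := 1) (y := u)
    ⟨g, one_mul g, Commute.one_left g, ⟨0, by simp⟩, hg⟩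
    ⟨1, mul_one _, Commute.one_right _, ⟨1, by rw [huo, pow_one]⟩, by simpa using hpr.one_lt.ne'⟩
    (fun h => hu1 (isConj_one_right.mp h)) hBu
  rw [finsum_mem_irr] at h1
  refine Eq.trans (Finset.sum_congr rfl fun χ _ => ?_) h1
  by_cases hχ : χ ∈ principalBlock M G
  · rw [if_pos hχ, if_pos hχ, mul_comm, IsCharacter.map_inv' (IsIrrCharacter.isCharacter χ.2)]
  · simp only [if_neg hχ]

/-- Twisted inner products of `λ - 1`. -/
theorem inner_twist [Fintype (zpowers x)] (a b : Nt x) (g : normalizer ((zpowers x : Subgroup G) : Set G)) :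
    classInner ((a.1 : zpowers x → ℂ) - BL.tr) (((b.1 : zpowers x → ℂ) - BL.tr) ∘ cj g) =
      (if (b.1 : zpowers x → ℂ) ∘ cj g = a.1 then 1 else 0) + 1 := by
  classical
  have h2 : ((b.1 : zpowers x → ℂ) - BL.tr) ∘ cj g = (b.1 : zpowers x → ℂ) ∘ cj g - BL.tr := rfl
  have hb' : (b.1 : zpowers x → ℂ) ∘ cj g ≠ BL.tr := by
    intro h0
    apply ne_tr_of_ne b.1 b.2
    funext u
    have := congrFun h0 (cj g⁻¹ u)
    simpa [cj_cj_inv] using this
  have ha' := ne_tr_of_ne a.1 a.2
  rw [h2, classInner_sub_left, classInner_sub_right, classInner_sub_right,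
    classInner_irr a.1.2 (irr_twist g b.1.2), classInner_irr a.1.2 isIrrCharacter_one,
    classInner_irr isIrrCharacter_one (irr_twist g b.1.2),
    classInner_irr isIrrCharacter_one isIrrCharacter_one, if_neg ha', if_neg hb'.symm, if_pos rfl]
  by_cases h3 : (b.1 : zpowers x → ℂ) ∘ cj g = a.1
  · rw [if_pos h3, if_pos h3.symm]
    ring
  · rw [if_neg h3, if_neg (fun h4 => h3 h4.symm)]
    ring

open Classical in
/-- The data of the principal block: the generalized "exceptional" vectors. -/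
theorem block_data [Fintype (zpowers x)] (hM : IsPModular p M) (hx : orderOf x = p)
    (hsyl : ¬ p ^ 2 ∣ Nat.card G) (e : ℕ)
    (hN : Nat.card (normalizer ((zpowers x : Subgroup G) : Set G)) =
      e * Nat.card (centralizer ({x} : Set G))) :
    ∃ (deg : IrrCharacter G → ℕ) (c : Nt x → IrrCharacter G → ℤ) (n : IrrCharacter G → ℤ),
      (∀ χ : IrrCharacter G, (χ : G → ℂ) 1 = deg χ ∧ deg χ ≠ 0 ∧ deg χ ∣ Nat.card G) ∧
      (∀ (a : Nt x) (χ : IrrCharacter G), χ ∉ principalBlock M G → c a χ = 0) ∧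
      (∀ a b : Nt x, ip (c a) (c b) = (e : ℤ) + if Rel a.1 b.1 then 1 else 0) ∧
      (∀ (a : Nt x) (g : G), ¬ p ∣ orderOf g → ∑ χ, (c a χ : ℂ) * (χ : G → ℂ) g = 0) ∧
      (∀ a : Nt x, c a (oneIrr G) = -1) ∧
      (∀ χ : IrrCharacter G, χ ∈ principalBlock M G → (deg χ : ℤ) = p * n χ + ∑ a : Nt x, c a χ) ∧
      (∀ a : Nt x, (Finset.univ.filter fun b : Nt x => Rel a.1 b.1).card = e) ∧
      (Finset.univ : Finset (Nt x)).card + 1 = p := by
  haveI : Fintype (normalizer ((zpowers x : Subgroup G) : Set G)) := Fintype.ofFinite _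
  have hpr := hp.out
  have hp0 : (p : ℂ) ≠ 0 := by exact_mod_cast hpr.ne_zero
  have hC0 : (Nat.card (centralizer ({x} : Set G)) : ℂ) ≠ 0 := by
    exact_mod_cast Nat.card_pos.ne'
  haveI := isPModular_isPrime hM
  choose deg hdeg using fun χ : IrrCharacter G => IsIrrCharacter_degree_dvd χ.2
  choose m hm using fun (χ : IrrCharacter G) (l : IrrCharacter (zpowers x)) =>
    classInner_isCharacter_nat (IsIrrCharacter.isCharacter l.2)
      (IsCharacter.restrict (zpowers x) (IsIrrCharacter.isCharacter χ.2))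
  have hform : ∀ (a : Nt x) (χ : IrrCharacter G), ((m χ a.1 : ℂ) - (m χ triv : ℂ)) =
      (p : ℂ)⁻¹ * ∑ u : zpowers x, ((a.1 : zpowers x → ℂ) u - 1) * conj ((χ : G → ℂ) u) := by
    intro a χ
    rw [← hm χ a.1, ← hm χ triv, classInner_def, classInner_def, Nat.card_zpowers, hx, ← mul_sub,
      ← Finset.sum_sub_distrib]
    congr 1
    refine Finset.sum_congr rfl fun u _ => ?_
    show _ - 1 * _ = _
    ring
  let c : Nt x → IrrCharacter G → ℤ := fun a χ =>
    if χ ∈ principalBlock M G then (m χ a.1 : ℤ) - m χ triv else 0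
  have hcC : ∀ (a : Nt x) (χ : IrrCharacter G), (c a χ : ℂ) = if χ ∈ principalBlock M G then
      (p : ℂ)⁻¹ * ∑ u : zpowers x, ((a.1 : zpowers x → ℂ) u - 1) * conj ((χ : G → ℂ) u) else 0 := by
    intro a χ
    by_cases hχ : χ ∈ principalBlock M G
    · simp only [c, if_pos hχ]
      rw [← hform]
      push_cast
      rfl
    · simp only [c, if_neg hχ]
      simp
  have hone_mem : oneIrr G ∈ principalBlock M G := mem_blockOf_self (oneIrr G)
  have hf1 : ∀ a : Nt x, (a.1 : zpowers x → ℂ) 1 - 1 = 0 := fun a => by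
    rw [deg_one]
    ring
  -- the Gram matrix
  have hgramC : ∀ a b : Nt x, ((ip (c a) (c b) : ℤ) : ℂ) = (e : ℂ) + if Rel a.1 b.1 then 1 else 0 := by
    intro a b
    set f : zpowers x → ℂ := fun u => (a.1 : zpowers x → ℂ) u - 1 with hf
    set f' : zpowers x → ℂ := fun u => (b.1 : zpowers x → ℂ) u - 1 with hf'
    have hF1 : f 1 = 0 := hf1 a
    have hF1' : f' 1 = 0 := hf1 b
    let S : zpowers x → zpowers x → ℂ := fun u v => ∑ χ : IrrCharacter G, (if χ ∈ principalBlock M G then
          conj ((χ : G → ℂ) u) * (χ : G → ℂ) v else 0)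
    let T : zpowers x → zpowers x → ℂ := fun u v =>
      ((Finset.univ.filter fun g : normalizer ((zpowers x : Subgroup G) : Set G) => cj g u = v).card : ℂ)
    have h1 : ((ip (c a) (c b) : ℤ) : ℂ) = (p : ℂ)⁻¹ * (p : ℂ)⁻¹ * ∑ u : zpowers x, ∑ v : zpowers x,
        f u * conj (f' v) * S u v := by
      have h10 : ∀ χ : IrrCharacter G, (c a χ : ℂ) * (c b χ : ℂ) = (p : ℂ)⁻¹ * (p : ℂ)⁻¹ *
          ∑ u : zpowers x, ∑ v : zpowers x, f u * conj (f' v) *
            (if χ ∈ principalBlock M G then conj ((χ : G → ℂ) u) * (χ : G → ℂ) v else 0) := by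
        intro χ
        by_cases hχ : χ ∈ principalBlock M G
        · have hconj : (c b χ : ℂ) = conj (c b χ : ℂ) := (map_intCast (starRingEnd ℂ) _).symm
          rw [hconj, hcC a χ, hcC b χ, if_pos hχ, if_pos hχ, map_mul, map_inv₀, Complex.conj_natCast,
            map_sum]
          simp only [if_pos hχ, map_mul, Complex.conj_conj, map_sub, map_one]
          rw [mul_mul_mul_comm, Finset.sum_mul_sum]
          congr 1
          refine Finset.sum_congr rfl fun u _ => Finset.sum_congr rfl fun v _ => ?_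
          simp only [f, f', map_sub, map_one]
          ring
        · simp only [c, if_neg hχ]
          simp
      simp only [ip]
      push_cast
      rw [Finset.sum_congr rfl fun χ _ => h10 χ, ← Finset.mul_sum]
      congr 1
      rw [Finset.sum_comm]
      refine Finset.sum_congr rfl fun u _ => ?_
      rw [Finset.sum_comm]
      refine Finset.sum_congr rfl fun v _ => ?_
      rw [← Finset.mul_sum]
    have h2 : (∑ u : zpowers x, ∑ v : zpowers x, f u * conj (f' v) * S u v) *
        (Nat.card (centralizer ({x} : Set G)) : ℂ) =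
        (p : ℂ) * ∑ u : zpowers x, ∑ v : zpowers x, f u * conj (f' v) * T u v := by
      rw [Finset.sum_mul, Finset.mul_sum]
      refine Finset.sum_congr rfl fun u _ => ?_
      rw [Finset.sum_mul, Finset.mul_sum]
      refine Finset.sum_congr rfl fun v _ => ?_
      by_cases hu : u = 1
      · subst hu
        rw [hF1]
        ring
      by_cases hv : v = 1
      · subst hv
        rw [hF1']
        simp
      have h' : S u v * (Nat.card (centralizer ({x} : Set G)) : ℂ) = (p : ℂ) * T u v := by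
        convert orth_count hM hx hsyl u v hu hv
      rw [mul_assoc, h']
      ring
    have h3 : ∑ u : zpowers x, ∑ v : zpowers x, f u * conj (f' v) * T u v =
        ∑ g : normalizer ((zpowers x : Subgroup G) : Set G), ∑ u : zpowers x,
          f u * conj (f' (cj g u)) := by
      rw [Finset.sum_comm (s := (Finset.univ : Finset (normalizer ((zpowers x : Subgroup G) : Set G))))]
      refine Finset.sum_congr rfl fun u _ => ?_
      have h30 : ∀ v : zpowers x, f u * conj (f' v) * T u v =
          ∑ g : normalizer ((zpowers x : Subgroup G) : Set G),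
            if cj g u = v then f u * conj (f' v) else 0 := by
        intro v
        simp only [T]
        rw [Finset.card_filter]
        push_cast
        rw [Finset.mul_sum]
        refine Finset.sum_congr rfl fun g _ => ?_
        split_ifs <;> simp
      rw [Finset.sum_congr rfl fun v _ => h30 v, Finset.sum_comm]
      refine Finset.sum_congr rfl fun g _ => ?_
      rw [Finset.sum_ite_eq]
      simp
    have h4 : ∑ g : normalizer ((zpowers x : Subgroup G) : Set G), ∑ u : zpowers x,
          f u * conj (f' (cj g u)) = (p : ℂ) * ∑ g : normalizer ((zpowers x : Subgroup G) : Set G),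
            ((if (b.1 : zpowers x → ℂ) ∘ cj g = a.1 then 1 else 0) + 1) := by
      rw [Finset.mul_sum]
      refine Finset.sum_congr rfl fun g _ => ?_
      rw [← inner_twist a b g, classInner_def, Nat.card_zpowers, hx, ← mul_assoc, mul_inv_cancel₀ hp0,
        one_mul]
      rfl
    have h5 : (∑ g : normalizer ((zpowers x : Subgroup G) : Set G),
            (((if (b.1 : zpowers x → ℂ) ∘ cj g = a.1 then 1 else 0) + 1) : ℂ)) =
        (if Rel a.1 b.1 then (Nat.card (centralizer ({x} : Set G)) : ℂ) else 0) +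
          (e : ℂ) * (Nat.card (centralizer ({x} : Set G)) : ℂ) := by
      rw [Finset.sum_add_distrib, Finset.sum_const, Finset.card_univ, nsmul_eq_mul, mul_one,
        Finset.sum_boole, Fintype.card_eq_nat_card, hN]
      congr 1
      · by_cases hr : Rel a.1 b.1
        · rw [if_pos hr, ← card_fiber' hpr hx a.1 b.1 (ne_tr_of_ne b.1 b.2) hr,
            Nat.card_eq_fintype_card, Fintype.card_subtype]
        · rw [if_neg hr]
          have : (Finset.univ.filter fun g : normalizer ((zpowers x : Subgroup G) : Set G) =>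
              (b.1 : zpowers x → ℂ) ∘ cj g = a.1) = ∅ := by
            rw [Finset.filter_eq_empty_iff]
            intro g _ hg
            exact hr ⟨g, hg⟩
          rw [this]
          simp
      · push_cast
        rfl
    rw [h3, h4, h5] at h2
    have h6 : ((ip (c a) (c b) : ℤ) : ℂ) * (Nat.card (centralizer ({x} : Set G)) : ℂ) =
        ((e : ℂ) + if Rel a.1 b.1 then 1 else 0) * (Nat.card (centralizer ({x} : Set G)) : ℂ) := by
      rw [h1, mul_assoc, h2]
      by_cases hr : Rel a.1 b.1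
      · simp only [if_pos hr]
        field_simp
        ring
      · simp only [if_neg hr]
        field_simp
        ring
    exact mul_right_cancel₀ hC0 h6
  have hgram : ∀ a b : Nt x, ip (c a) (c b) = (e : ℤ) + if Rel a.1 b.1 then 1 else 0 := by
    intro a b
    have := hgramC a b
    have h2 : ((ip (c a) (c b) : ℤ) : ℂ) = (((e : ℤ) + if Rel a.1 b.1 then 1 else 0 : ℤ) : ℂ) := by
      rw [this]
      push_cast
      rfl
    exact_mod_cast h2
  have hreg : ∀ (a : Nt x) (g : G), ¬ p ∣ orderOf g → ∑ χ, (c a χ : ℂ) * (χ : G → ℂ) g = 0 := by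
    intro a g hg
    have h1 : ∀ χ : IrrCharacter G, (c a χ : ℂ) * (χ : G → ℂ) g = (p : ℂ)⁻¹ * ∑ u : zpowers x,
        ((a.1 : zpowers x → ℂ) u - 1) * (if χ ∈ principalBlock M G then
          conj ((χ : G → ℂ) u) * (χ : G → ℂ) g else 0) := by
      intro χ
      by_cases hχ : χ ∈ principalBlock M G
      · rw [hcC, if_pos hχ, mul_assoc, Finset.sum_mul]
        congr 1
        refine Finset.sum_congr rfl fun u _ => ?_
        rw [if_pos hχ]
        ring
      · simp only [hcC, if_neg hχ]
        simp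
    rw [Finset.sum_congr rfl fun χ _ => h1 χ, ← Finset.mul_sum, Finset.sum_comm]
    have h2 : ∀ u : zpowers x, ∑ χ : IrrCharacter G, ((a.1 : zpowers x → ℂ) u - 1) *
        (if χ ∈ principalBlock M G then conj ((χ : G → ℂ) u) * (χ : G → ℂ) g else 0) = 0 := by
      intro u
      rw [← Finset.mul_sum]
      by_cases hu : u = 1
      · subst hu
        rw [hf1 a, zero_mul]
      · have hu1 : (u : G) ≠ 1 := fun h0 => hu (Subtype.ext h0)
        have := orth_regular (M := M) hM hx u.2 hu1 hg
        convert mul_zero _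
    rw [Finset.sum_congr rfl fun u _ => h2 u]
    simp
  have hone : ∀ a : Nt x, c a (oneIrr G) = -1 := by
    intro a
    have h1 := hm (oneIrr G) a.1
    have h2 := hm (oneIrr G) triv
    have h3 : classInner (a.1 : zpowers x → ℂ) (fun _ : zpowers x => (1 : ℂ)) = 0 := by
      rw [classInner_irr a.1.2 isIrrCharacter_one, if_neg (ne_tr_of_ne a.1 a.2)]
    have h4 : classInner (BL.tr : zpowers x → ℂ) (fun _ : zpowers x => (1 : ℂ)) = 1 := by
      rw [classInner_irr isIrrCharacter_one isIrrCharacter_one, if_pos rfl]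
    have h5 : (m (oneIrr G) a.1 : ℂ) = 0 := by rw [← h1]; exact h3
    have h6 : (m (oneIrr G) triv : ℂ) = 1 := by rw [← h2]; exact h4
    have h7 : m (oneIrr G) a.1 = 0 := by exact_mod_cast h5
    have h8 : m (oneIrr G) triv = 1 := by exact_mod_cast h6
    simp only [c, if_pos hone_mem, h7, h8]
    norm_num
  have hcls : ∀ a : Nt x, (Finset.univ.filter fun b : Nt x => Rel a.1 b.1).card = e := by
    intro a
    have h1 := card_orbit' hpr hx a
    rw [hN] at h1
    have h2 := Nat.eq_of_mul_eq_mul_right Nat.card_pos h1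
    rw [h2, Nat.card_eq_fintype_card, Fintype.card_subtype]
  have hnt : (Finset.univ : Finset (Nt x)).card + 1 = p := by
    rw [Finset.card_univ, ← Nat.card_eq_fintype_card]
    exact card_nt' hpr hx
  have hdform : ∀ i : IrrCharacter G, i ∈ principalBlock M G →
      (deg i : ℤ) = p * m i triv + ∑ a : Nt x, c a i := by
    intro i hi
    have h1 := congrFun (classFunction_eq_sum (fun u : zpowers x => (i : G → ℂ) u)
      (IsCharacter.isClassFunction (IsCharacter.restrict (zpowers x)
        (IsIrrCharacter.isCharacter i.2)))) 1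
    rw [Finset.sum_apply] at h1
    simp only [Pi.smul_apply, smul_eq_mul, deg_one, mul_one, coe_one] at h1
    rw [(hdeg i).1] at h1
    have h2 : ∀ l : IrrCharacter (zpowers x),
        classInner (fun u : zpowers x => (i : G → ℂ) u) (l : zpowers x → ℂ) = (m i l : ℂ) := by
      intro l
      rw [← conj_classInner, hm i l, Complex.conj_natCast]
    simp only [h2] at h1
    have h3 : deg i = ∑ l : IrrCharacter (zpowers x), m i l := by exact_mod_cast h1
    rw [Fintype.sum_eq_add_sum_subtype_ne (fun l => m i l) triv] at h3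
    have h4 : ∑ a : Nt x, c a i = (∑ a : Nt x, (m i a.1 : ℤ)) - (p - 1 : ℕ) * m i triv := by
      simp only [c, if_pos hi]
      rw [Finset.sum_sub_distrib, Finset.sum_const, nsmul_eq_mul]
      congr 3
      omega
    rw [h4, h3]
    have hp1 : ((p - 1 : ℕ) : ℤ) = (p : ℤ) - 1 := by
      have := hpr.pos
      omega
    rw [hp1]
    push_cast
    ring
  refine ⟨deg, c, fun χ => m χ triv, hdeg, ?_, hgram, hreg, hone, hdform, hcls, hnt⟩
  intro a χ hχ
  simp only [c, if_neg hχ]

open Classical in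
/-- The case `e = 2`: two characters of the principal block with Brauer's relation. -/
theorem block_two (hM : IsPModular p M) (hx : orderOf x = p) (hsyl : ¬ p ^ 2 ∣ Nat.card G)
    (hN : Nat.card (normalizer ((zpowers x : Subgroup G) : Set G)) =
      2 * Nat.card (centralizer ({x} : Set G))) (hp5 : 5 ≤ p) :
    ∃ (deg : IrrCharacter G → ℕ) (σ : ℤ) (ξ χ₀ : IrrCharacter G),
      (∀ χ : IrrCharacter G, (χ : G → ℂ) 1 = deg χ ∧ deg χ ≠ 0 ∧ deg χ ∣ Nat.card G) ∧
      (σ = 1 ∨ σ = -1) ∧ ξ ∈ principalBlock M G ∧ χ₀ ∈ principalBlock M G ∧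
      ξ ≠ oneIrr G ∧ χ₀ ≠ oneIrr G ∧ ((deg ξ : ℤ) ≡ σ [ZMOD p]) ∧ ((deg χ₀ : ℤ) ≡ 2 * σ [ZMOD p]) ∧
      (deg χ₀ : ℤ) = deg ξ + σ ∧
      ∀ g : G, ¬ p ∣ orderOf g → (χ₀ : G → ℂ) g = (ξ : G → ℂ) g + σ := by
  haveI : Fintype (zpowers x) := Fintype.ofFinite _
  obtain ⟨deg, c, n, hdeg, hc0, hgram, hreg, hone, hdform, hcls, hnt⟩ :=
    block_data (M := M) hM hx hsyl 2 hN
  have hdeg1 : deg (oneIrr G) = 1 := by
    have h2 : (1 : ℂ) = deg (oneIrr G) := (hdeg (oneIrr G)).1
    exact_mod_cast h2.symm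
  obtain ⟨a₀⟩ : Nonempty (Nt x) := by
    rw [← Finset.univ_nonempty_iff, ← Finset.card_pos]
    omega
  obtain ⟨a₁, -, ha₁⟩ := Finset.exists_mem_notMem_of_card_lt_card
    (s := Finset.univ.filter fun b : Nt x => Rel a₀.1 b.1) (t := Finset.univ)
    (by rw [hcls]; omega)
  simp only [Finset.mem_filter, Finset.mem_univ, true_and] at ha₁
  have hdd : ∀ a : Nt x, ip (c a) (fun χ => (deg χ : ℤ)) = 0 := by
    intro a
    have h1 := hreg a 1 (by simpa using (hp.out).one_lt.ne')
    simp only [(fun χ : IrrCharacter G => (hdeg χ).1)] at h1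
    have h2 : ((ip (c a) (fun χ => (deg χ : ℤ)) : ℤ) : ℂ) = 0 := by
      simp only [ip]
      push_cast
      exact h1
    exact_mod_cast h2
  obtain ⟨ξ, χ₀, σ, hσ, hξ1, hχ1, hne, hv, hdrel, hvξ, hvχ⟩ :=
    star_two (fun a : Nt x => c a) (fun χ => (deg χ : ℤ)) (fun a b : Nt x => Rel a.1 b.1) (oneIrr G)
      (fun i => by have := (hdeg i).2.1; omega) (by simp [hdeg1]) hdd
      (fun a b => by rw [hgram]; norm_num)
      (fun a => rel_equiv.refl a.1) (fun a b h => rel_equiv.symm h) hone a₀ a₁ ha₁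
  have hσ0 : σ ≠ 0 := by rcases hσ with rfl | rfl <;> norm_num
  have hmem : ∀ χ : IrrCharacter G, (∃ a, c a χ ≠ 0) → χ ∈ principalBlock M G := by
    rintro χ ⟨a, ha⟩
    by_contra hχ
    exact ha (hc0 a χ hχ)
  have hξB : ξ ∈ principalBlock M G := hmem ξ ⟨a₀, by rw [hvξ]; omega⟩
  have hχB : χ₀ ∈ principalBlock M G := hmem χ₀ ⟨a₀, by rw [hvχ, if_pos (rel_equiv.refl a₀.1)]; exact hσ0⟩
  have hcard : ((Finset.univ : Finset (Nt x)).card : ℤ) = p - 1 := by
    have : ((Finset.univ : Finset (Nt x)).card : ℤ) + 1 = p := by exact_mod_cast hnt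
    omega
  refine ⟨deg, σ, ξ, χ₀, hdeg, hσ, hξB, hχB, hξ1, hχ1, ?_, ?_, hdrel, ?_⟩
  · have h1 := hdform ξ hξB
    simp only [hvξ] at h1
    rw [Finset.sum_const, nsmul_eq_mul, hcard] at h1
    refine Int.ModEq.symm ((Int.modEq_iff_dvd).mpr ⟨n ξ - σ, ?_⟩)
    rw [h1]
    ring
  · have h1 := hdform χ₀ hχB
    simp only [hvχ] at h1
    have h2 : ∑ a : Nt x, (if Rel a₀.1 a.1 then σ else 0) = 2 * σ := by
      rw [← Finset.sum_filter, Finset.sum_const, hcls, nsmul_eq_mul]
      norm_num
    rw [h2] at h1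
    refine Int.ModEq.symm ((Int.modEq_iff_dvd).mpr ⟨n χ₀, ?_⟩)
    rw [h1]
    ring
  · intro g hg
    have h1 := hreg a₀ g hg
    rw [hv] at h1
    have h2 : ∀ χ : IrrCharacter G, (((σ • (dl χ₀ - dl ξ) + (- dl (oneIrr G))) χ : ℤ) : ℂ) * (χ : G → ℂ) g =
        (σ : ℂ) * ((if χ = χ₀ then (χ : G → ℂ) g else 0) - (if χ = ξ then (χ : G → ℂ) g else 0)) -
          (if χ = oneIrr G then (χ : G → ℂ) g else 0) := by
      intro χ
      simp only [Pi.add_apply, Pi.smul_apply, Pi.sub_apply, Pi.neg_apply, smul_eq_mul, dl]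
      split_ifs <;> push_cast <;> ring
    rw [Finset.sum_congr rfl fun χ _ => h2 χ, Finset.sum_sub_distrib, ← Finset.mul_sum,
      Finset.sum_sub_distrib, Finset.sum_ite_eq', Finset.sum_ite_eq', Finset.sum_ite_eq'] at h1
    simp only [Finset.mem_univ, if_true] at h1
    have h3 : ((oneIrr G : IrrCharacter G) : G → ℂ) g = 1 := rfl
    rw [h3] at h1
    rcases hσ with rfl | rfl
    · push_cast at h1 ⊢
      linear_combination h1
    · push_cast at h1 ⊢
      linear_combination (-1 : ℂ) * h1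

open Classical in
/-- The case `e = p - 1`: one vector. -/
theorem block_single (hM : IsPModular p M) (hx : orderOf x = p) (hsyl : ¬ p ^ 2 ∣ Nat.card G)
    (hN : Nat.card (normalizer ((zpowers x : Subgroup G) : Set G)) =
      (p - 1) * Nat.card (centralizer ({x} : Set G))) :
    ∃ (deg : IrrCharacter G → ℕ) (w : IrrCharacter G → ℤ),
      (∀ χ : IrrCharacter G, (χ : G → ℂ) 1 = deg χ ∧ deg χ ≠ 0 ∧ deg χ ∣ Nat.card G) ∧
      w (oneIrr G) = -1 ∧ ip w w = p ∧ (∀ χ : IrrCharacter G, χ ∉ principalBlock M G → w χ = 0) ∧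
      (∀ g : G, ¬ p ∣ orderOf g → ∑ χ, (w χ : ℂ) * (χ : G → ℂ) g = 0) ∧
      (∀ χ : IrrCharacter G, χ ∈ principalBlock M G → ((deg χ : ℤ) ≡ - w χ [ZMOD p])) := by
  haveI : Fintype (zpowers x) := Fintype.ofFinite _
  obtain ⟨deg, c, n, hdeg, hc0, hgram, hreg, hone, hdform, hcls, hnt⟩ :=
    block_data (M := M) hM hx hsyl (p - 1) hN
  have hpr := hp.out
  obtain ⟨a₀⟩ : Nonempty (Nt x) := by
    rw [← Finset.univ_nonempty_iff, ← Finset.card_pos]
    have := hpr.two_le
    omega
  have hall : ∀ a b : Nt x, Rel a.1 b.1 := by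
    intro a b
    have h1 : (Finset.univ.filter fun b : Nt x => Rel a.1 b.1) = Finset.univ := by
      apply Finset.eq_of_subset_of_card_le (Finset.subset_univ _)
      rw [hcls]
      omega
    have h2 : b ∈ (Finset.univ.filter fun b : Nt x => Rel a.1 b.1) := by
      rw [h1]
      exact Finset.mem_univ b
    simpa using h2
  have hp1 : (((p - 1 : ℕ) : ℤ)) + 1 = p := by
    have := hpr.pos
    omega
  have hnorm : ∀ a b : Nt x, ip (c a) (c b) = p := by
    intro a b
    rw [hgram, if_pos (hall a b), hp1]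
  have hsame : ∀ a : Nt x, c a = c a₀ := by
    intro a
    have : ip (c a - c a₀) (c a - c a₀) = 0 := by
      rw [ip_sub_left, ip_sub_right, ip_sub_right, hnorm, hnorm, hnorm, hnorm]
      ring
    exact sub_eq_zero.mp (eq_zero_of_ip_self _ this)
  refine ⟨deg, c a₀, hdeg, hone a₀, hnorm a₀ a₀, hc0 a₀, hreg a₀, ?_⟩
  intro χ hχ
  have h1 := hdform χ hχ
  simp only [hsame] at h1
  rw [Finset.sum_const, nsmul_eq_mul] at h1
  have hcard : ((Finset.univ : Finset (Nt x)).card : ℤ) = p - 1 := by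
    have : ((Finset.univ : Finset (Nt x)).card : ℤ) + 1 = p := by exact_mod_cast hnt
    omega
  rw [hcard] at h1
  refine Int.ModEq.symm ((Int.modEq_iff_dvd).mpr ⟨n χ + c a₀ χ, ?_⟩)
  rw [h1]
  ring

/-- The number of eigenvalues `-1` of an involution is even, when determinants are trivial. -/
theorem exists_even_of_involution {χ : G → ℂ} (hχ : IsCharacter G χ) (hdet : ∀ β : G →* ℂˣ, β = 1)
    {t : G} (ht : t ^ 2 = 1) :
    ∃ a d : ℕ, χ 1 = d ∧ χ 1 - χ t = 2 * (a : ℂ) ∧ Even a ∧ a ≤ d := by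
  classical
  obtain ⟨n, ρ, rfl⟩ := hχ
  have hfin : IsOfFinOrder t := isOfFinOrder_of_finite t
  obtain ⟨b, ζ, hζ, hb⟩ := exists_eigenbasis_rep ρ t hfin
  have hb1 : ∀ i, ρ t (b i) = ζ i • b i := by
    intro i
    simpa using hb i 1
  have hζ2 : ∀ i, ζ i = 1 ∨ ζ i = -1 := by
    intro i
    have h1 : ρ (t ^ (2 : ℤ)) (b i) = ζ i ^ (2 : ℤ) • b i := hb i 2
    have h2 : t ^ (2 : ℤ) = 1 := by exact_mod_cast ht
    rw [h2, map_one] at h1
    have h3 : (1 : ℂ) • b i = ζ i ^ (2 : ℤ) • b i := by simpa using h1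
    have h4 := smul_left_injective ℂ (b.ne_zero i) h3
    have h5 : ζ i ^ 2 = 1 := by
      have : ζ i ^ (2 : ℤ) = ζ i ^ 2 := by norm_cast
      rw [this] at h4
      exact h4.symm
    rcases mul_eq_zero.mp (show (ζ i - 1) * (ζ i + 1) = 0 by linear_combination h5) with h6 | h6
    · left
      linear_combination h6
    · right
      linear_combination h6
  have htr : ρ.character t = ∑ i, ζ i := trace_of_diagonal b (ρ t) ζ hb1
  have h1 : ρ.character 1 = (Module.finrank ℂ (Fin n → ℂ) : ℂ) := by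
    simp [Representation.character]
  have hdet1 : LinearMap.det (ρ t) = ∏ i, ζ i := by
    rw [← LinearMap.det_toMatrix b (ρ t)]
    have : LinearMap.toMatrix b b (ρ t) = Matrix.diagonal ζ := by
      ext i j
      simp [LinearMap.toMatrix_apply, hb1, Matrix.diagonal_apply, Finsupp.single_apply, eq_comm]
      split_ifs with h <;> simp [h]
    rw [this, Matrix.det_diagonal]
  have hdet2 : LinearMap.det (ρ t) = 1 := by
    rw [← detHom_apply, hdet (detHom ρ)]
    simp
  refine ⟨(Finset.univ.filter fun i => ζ i = -1).card, Module.finrank ℂ (Fin n → ℂ), h1, ?_, ?_, ?_⟩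
  · rw [h1, htr]
    have h2 : (Module.finrank ℂ (Fin n → ℂ) : ℂ) = ∑ _i : Fin (Module.finrank ℂ (Fin n → ℂ)), (1 : ℂ) := by
      simp
    rw [h2, ← Finset.sum_sub_distrib, Finset.card_filter]
    push_cast
    rw [Finset.mul_sum]
    refine Finset.sum_congr rfl fun i _ => ?_
    rcases hζ2 i with h3 | h3
    · have h4 : (1 : ℂ) ≠ -1 := by norm_num
      simp [h3, h4]
    · simp [h3]
      norm_num
  · rw [hdet1] at hdet2
    have h2 : ∏ i, ζ i = ∏ i, (if ζ i = -1 then (-1 : ℂ) else 1) := by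
      refine Finset.prod_congr rfl fun i _ => ?_
      rcases hζ2 i with h3 | h3
      · have h4 : (1 : ℂ) ≠ -1 := by norm_num
        simp [h3, h4]
      · simp [h3]
    rw [h2, Finset.prod_ite, Finset.prod_const, Finset.prod_const_one, mul_one] at hdet2
    exact (neg_one_pow_eq_one_iff_even (by norm_num)).mp hdet2
  · refine (Finset.card_filter_le _ _).trans ?_
    simp

/-- In the non-abelian simple case, an involution is not in the kernel of a non-trivial character. -/
theorem ne_of_involution [IsSimpleGroup G] (χ : IrrCharacter G) (hχ1 : χ ≠ oneIrr G) {t : G} (ht : t ≠ 1) :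
    (χ : G → ℂ) t ≠ (χ : G → ℂ) 1 := by
  classical
  intro heq
  obtain ⟨n, ρ, hρ⟩ := IsIrrCharacter.isCharacter χ.2
  have h1 : ρ.character 1 = (Module.finrank ℂ (Fin n → ℂ) : ℂ) := by
    simp [Representation.character]
  have h2 : ρ.character t = (Module.finrank ℂ (Fin n → ℂ) : ℂ) := by
    rw [hρ, heq, ← hρ, h1]
  have h3 := (character_eq_finrank_iff ρ t (isOfFinOrder_of_finite t)).mp h2
  let K : Subgroup G := MonoidHom.ker (show G →* Module.End ℂ (Fin n → ℂ) from ρ).toHomUnits
  have hK : K.Normal := MonoidHom.normal_ker _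
  have htK : t ∈ K := by
    rw [MonoidHom.mem_ker]
    apply Units.ext
    show ρ t = 1
    exact h3
  have htop : K = ⊤ := by
    rcases IsSimpleGroup.eq_bot_or_eq_top_of_normal K hK with h0 | h0
    · exfalso
      rw [h0, Subgroup.mem_bot] at htK
      exact ht htK
    · exact h0
  have hall : ∀ g : G, (χ : G → ℂ) g = (χ : G → ℂ) 1 := by
    intro g
    have hg : g ∈ K := by rw [htop]; trivial
    rw [MonoidHom.mem_ker] at hg
    have hg' : ρ g = 1 := congrArg Units.val hg
    rw [← hρ]
    show LinearMap.trace ℂ _ (ρ g) = LinearMap.trace ℂ _ (ρ 1)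
    have h1' : ρ 1 = 1 := map_one ρ
    rw [hg', h1']
  have h4 := classInner_irr χ.2 isIrrCharacter_one
  have h5 : (χ : G → ℂ) ≠ fun _ => 1 := fun h0 => hχ1 (Subtype.ext h0)
  rw [if_neg h5] at h4
  have h6 : classInner (χ : G → ℂ) (fun _ => 1) = (χ : G → ℂ) 1 := by
    rw [classInner_def]
    simp only [hall, map_one, mul_one, Finset.sum_const, Finset.card_univ, nsmul_eq_mul]
    rw [Nat.card_eq_fintype_card]
    have : (Fintype.card G : ℂ) ≠ 0 := by exact_mod_cast Fintype.card_ne_zero
    field_simp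
  rw [h6] at h4
  obtain ⟨d, hd, hd0, -⟩ := IsIrrCharacter_degree_dvd χ.2
  rw [hd] at h4
  exact hd0 (by exact_mod_cast h4)

/-- The degree bound for the principal block, when the centralizer has an involution. -/
theorem two_p_le_deg [IsSimpleGroup G] (hper : ∀ β : G →* ℂˣ, β = 1) (hM : IsPModular p M)
    (hx : orderOf x = p) (hsyl : ¬ p ^ 2 ∣ Nat.card G) (hp2 : p ≠ 2) {t : G} (ht : orderOf t = 2)
    (htc : t ∈ centralizer ({x} : Set G)) (χ : IrrCharacter G) (hχ : χ ∈ principalBlock M G)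
    (hχ1 : χ ≠ oneIrr G) {d : ℕ} (hd : (χ : G → ℂ) 1 = d) : 2 * p ≤ d := by
  classical
  have hpr := hp.out
  have hpodd : Odd p := hpr.odd_of_ne_two hp2
  have ht2 : t ^ 2 = 1 := by rw [← ht]; exact pow_orderOf_eq_one t
  have ht1 : t ≠ 1 := by
    rintro rfl
    simp at ht
  -- constancy on the section
  have hconst : ∀ u : zpowers x, (u : G) ≠ 1 → (χ : G → ℂ) ((u : G) * t) = (χ : G → ℂ) u := by
    intro u hu
    have huo := orderOf_of_mem hpr hx u.2 hu
    refine irr_mul_of_principal hM ⟨1, by rw [huo, pow_one]⟩ ?_ χ hχ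
    obtain ⟨N, hN, hN', hidx, -⟩ := exists_complement (p := p) (x := (u : G)) huo hsyl
    have htu : t ∈ centralizer ({(u : G)} : Set G) := by
      rw [centralizer_eq hpr hx u.2 hu]
      exact htc
    refine ⟨⟨t, htu⟩, ?_, rfl⟩
    have h1 := Cfsg.Agent.Lib.Core.le_pPrimeCore hN
      (((Nat.Prime.coprime_iff_not_dvd hpr).mpr hN').symm)
    apply h1
    have h2 := Subgroup.pow_index_mem N (⟨t, htu⟩ : centralizer ({(u : G)} : Set G))
    rw [hidx] at h2
    obtain ⟨k, hk⟩ := hpodd
    have h3 : (⟨t, htu⟩ : centralizer ({(u : G)} : Set G)) ^ p = ⟨t, htu⟩ := by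
      apply Subtype.ext
      rw [hk]
      simp [pow_succ, pow_mul, ht2]
    rwa [h3] at h2
  -- the integrality
  haveI : Fintype (zpowers x) := Fintype.ofFinite _
  haveI : Fintype (zpowers t) := Fintype.ofFinite _
  have hZ : ∀ s : zpowers t, (s : G) = 1 ∨ (s : G) = t := by
    rintro ⟨s, hs⟩
    obtain ⟨k, rfl⟩ := Subgroup.mem_zpowers_iff.mp hs
    have ht2' : t * t = 1 := by rw [← pow_two]; exact ht2
    rcases Int.even_or_odd' k with ⟨m, rfl | rfl⟩
    · left
      show t ^ (2 * m) = 1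
      rw [zpow_mul]
      have : t ^ (2 : ℤ) = 1 := by exact_mod_cast ht2
      rw [this, one_zpow]
    · right
      show t ^ (2 * m + 1) = t
      rw [zpow_add, zpow_mul]
      have : t ^ (2 : ℤ) = 1 := by exact_mod_cast ht2
      rw [this, one_zpow]
      simp
  have hcomm : ∀ (u : zpowers x) (s : zpowers t), Commute (u : G) (s : G) := by
    intro u s
    rcases hZ s with h | h
    · rw [h]
      exact Commute.one_right _
    · rw [h]
      obtain ⟨k, hk⟩ := Subgroup.mem_zpowers_iff.mp u.2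
      have hc : Commute t x := Subgroup.mem_centralizer_singleton_iff.mp htc
      rw [← hk]
      exact (hc.zpow_right k).symm
  let φ : zpowers x × zpowers t →* G :=
    MonoidHom.noncommCoprod (zpowers x).subtype (zpowers t).subtype (fun u s => hcomm u s)
  have hφ : ∀ (u : zpowers x) (s : zpowers t), φ (u, s) = (u : G) * s := fun u s => rfl
  obtain ⟨n, hn⟩ := classInner_isCharacter_nat (IsCharacter.comp φ (IsIrrCharacter.isCharacter χ.2))
    (IsIrrCharacter.isCharacter (isIrrCharacter_one (G := zpowers x × zpowers t)))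
  obtain ⟨m, hm⟩ := classInner_isCharacter_nat
    (IsCharacter.restrict (zpowers x) (IsIrrCharacter.isCharacter χ.2))
    (IsIrrCharacter.isCharacter (isIrrCharacter_one (G := zpowers x)))
  have hp0 : (p : ℂ) ≠ 0 := by exact_mod_cast hpr.ne_zero
  have hcardH : Nat.card (zpowers x × zpowers t) = p * 2 := by
    rw [Nat.card_prod, Nat.card_zpowers, Nat.card_zpowers, hx, ht]
  have hsumZ : ∀ f : G → ℂ, ∑ s : zpowers t, f s = f 1 + f t := by
    intro f
    have hne : (1 : zpowers t) ≠ ⟨t, mem_zpowers t⟩ := fun h0 => ht1 (congrArg Subtype.val h0).symm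
    refine (Fintype.sum_eq_add (1 : zpowers t) ⟨t, mem_zpowers t⟩ hne ?_)
    rintro s ⟨h1, h2⟩
    exfalso
    rcases hZ s with h | h
    · exact h1 (Subtype.ext h)
    · exact h2 (Subtype.ext h)
  have h1 : ∑ u : zpowers x, ((χ : G → ℂ) u + (χ : G → ℂ) ((u : G) * t)) = ((p * 2 : ℕ) : ℂ) * n := by
    rw [classInner_def, hcardH] at hn
    have h2 : ((p * 2 : ℕ) : ℂ) ≠ 0 := by
      push_cast
      exact mul_ne_zero hp0 two_ne_zero
    rw [inv_mul_eq_iff_eq_mul₀ h2, Fintype.sum_prod_type] at hn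
    rw [← hn]
    refine Finset.sum_congr rfl fun u _ => ?_
    have h3 := hsumZ (fun g => (χ : G → ℂ) ((u : G) * g))
    simp only [mul_one] at h3
    rw [← h3]
    refine Finset.sum_congr rfl fun s _ => ?_
    simp [hφ]
  have h2 : ∑ u : zpowers x, (χ : G → ℂ) u = (p : ℂ) * m := by
    rw [classInner_def, Nat.card_zpowers, hx, inv_mul_eq_iff_eq_mul₀ hp0] at hm
    rw [← hm]
    refine Finset.sum_congr rfl fun u _ => ?_
    simp
  have h3 : ∑ u : zpowers x, ((χ : G → ℂ) ((u : G) * t) - (χ : G → ℂ) u) = (χ : G → ℂ) t - (χ : G → ℂ) 1 := by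
    rw [Finset.sum_eq_single (1 : zpowers x)]
    · simp
    · intro u _ hu
      rw [hconst u (fun h0 => hu (Subtype.ext h0)), sub_self]
    · intro h0
      exact absurd (Finset.mem_univ _) h0
  obtain ⟨a, d', hd', ha, heven, hle⟩ := exists_even_of_involution (IsIrrCharacter.isCharacter χ.2) hper ht2
  have hdd : d' = d := by
    rw [hd] at hd'
    exact_mod_cast hd'.symm
  subst hdd
  have h4 : (a : ℂ) = (p : ℂ) * ((m : ℂ) - n) := by
    have h5 : ∑ u : zpowers x, ((χ : G → ℂ) u + (χ : G → ℂ) ((u : G) * t)) =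
        2 * ∑ u : zpowers x, (χ : G → ℂ) u + ∑ u : zpowers x, ((χ : G → ℂ) ((u : G) * t) - (χ : G → ℂ) u) := by
      rw [Finset.mul_sum, ← Finset.sum_add_distrib]
      refine Finset.sum_congr rfl fun u _ => ?_
      ring
    rw [h1, h2, h3] at h5
    push_cast at h5
    have h6 : (2 : ℂ) ≠ 0 := two_ne_zero
    apply mul_left_cancel₀ h6
    rw [← ha]
    linear_combination h5
  have h5 : (a : ℤ) = (p : ℤ) * ((m : ℤ) - n) := by
    have : ((a : ℤ) : ℂ) = (((p : ℤ) * ((m : ℤ) - n) : ℤ) : ℂ) := by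
      push_cast
      exact h4
    exact_mod_cast this
  have hpa : p ∣ a := by
    have : (p : ℤ) ∣ (a : ℤ) := ⟨_, h5⟩
    exact_mod_cast this
  have ha0 : a ≠ 0 := by
    rintro rfl
    apply ne_of_involution χ hχ1 ht1
    have : (χ : G → ℂ) 1 - (χ : G → ℂ) t = 0 := by
      rw [ha]
      simp
    exact (sub_eq_zero.mp this).symm
  have h2a : 2 ∣ a := heven.two_dvd
  have hcop : Nat.Coprime 2 p := (Nat.coprime_two_left).mpr hpodd
  have hda : 2 * p ∣ a := hcop.mul_dvd_of_dvd_of_dvd h2a hpa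
  exact (Nat.le_of_dvd (Nat.pos_of_ne_zero ha0) hda).trans hle

end Block

end Cfsg.Agent.Lib.SmallSimple.BB
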