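import Cfsg.Agent.Lib.SmallSimple.BrauerB
import Cfsg.Agent.Lib.SmallSimple.Tools
import Cfsg.Agent.Lib.Char.DefectZero
import Cfsg.Agent.Lib.Perm.Basic

/-!
# Applications of the principal block congruences to simple groups of small order.
-/

set_option autoImplicit false
set_option linter.unusedSectionVars false
set_option linter.style.haveILetI false
set_option linter.unusedSimpArgs false
set_option linter.unnecessarySimpa false
set_option linter.unusedVariables false

open Subgroup

namespace Cfsg.Agent.Lib.SmallSimple.BA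

open Cfsg (classInner IsCharacter IsIrrCharacter IrrCharacter IsPModular principalBlock)
open Cfsg.Agent.Lib.Char
open Cfsg.Agent.Lib.Block
open Cfsg.Agent.Lib.SmallSimple.Star
open Cfsg.Agent.Lib.SmallSimple.BL (cj Rel Nt)
open Cfsg.Agent.Lib.SmallSimple.BB

universe u

variable {G : Type u} [Group G] [Finite G] {p : ℕ} {x : G}

theorem exists_gen [hp : Fact p.Prime] (P : Sylow p G) (hP : Nat.card (P : Subgroup G) = p) :
    ∃ x : G, orderOf x = p ∧ zpowers x = (P : Subgroup G) := by
  have hcyc : IsCyclic (P : Subgroup G) := by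
    haveI : Fact (Nat.card (P : Subgroup G)).Prime := ⟨by rw [hP]; exact hp.out⟩
    exact isCyclic_of_prime_card rfl
  obtain ⟨g, hg⟩ := hcyc
  have hz : zpowers (g : G) = (P : Subgroup G) := by
    apply Subgroup.ext
    intro y
    constructor
    · intro hy
      obtain ⟨k, rfl⟩ := Subgroup.mem_zpowers_iff.mp hy
      exact Subgroup.zpow_mem _ g.2 k
    · intro hy
      obtain ⟨k, hk⟩ := hg ⟨y, hy⟩
      have := congrArg Subtype.val hk
      simp only [SubgroupClass.coe_zpow] at this
      exact ⟨k, this⟩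
  exact ⟨g, by rw [← Nat.card_zpowers, hz, hP], hz⟩

theorem centralizer_zpowers' (x : G) :
    centralizer ((zpowers x : Subgroup G) : Set G) = centralizer ({x} : Set G) := by
  apply le_antisymm
  · intro g hg
    rw [Subgroup.mem_centralizer_singleton_iff]
    have := Subgroup.mem_centralizer_iff.mp hg x (mem_zpowers x)
    exact this.symm
  · intro g hg
    rw [Subgroup.mem_centralizer_iff]
    rintro y hy
    obtain ⟨k, rfl⟩ := Subgroup.mem_zpowers_iff.mp hy
    have hc : Commute g x := Subgroup.mem_centralizer_singleton_iff.mp hg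
    exact (hc.zpow_right k).eq.symm

section Simple

variable [IsSimpleGroup G]

/-- The number `e`. -/
theorem norm_data (hnc : ¬ IsMulCommutative G) [hp : Fact p.Prime] (P : Sylow p G)
    (hP : Nat.card (P : Subgroup G) = p) (hx : orderOf x = p) (hz : zpowers x = (P : Subgroup G)) :
    ∃ e, e ∣ p - 1 ∧ e ≠ 1 ∧ Nat.card (normalizer ((zpowers x : Subgroup G) : Set G)) =
      e * Nat.card (centralizer ({x} : Set G)) := by
  have hpr := hp.out
  haveI : Fact (Nat.card (zpowers x)).Prime := ⟨by rw [Nat.card_zpowers, hx]; exact hpr⟩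
  haveI hcyc : IsCyclic (zpowers x) := isCyclic_of_prime_card rfl
  have h1 := Lib.SmallSimple.relIndex_centralizer_normalizer_dvd (zpowers x)
  rw [Nat.card_zpowers, hx, Nat.totient_prime hpr, centralizer_zpowers'] at h1
  have hle : centralizer ({x} : Set G) ≤ normalizer ((zpowers x : Subgroup G) : Set G) :=
    centralizer_le_normalizer
  refine ⟨_, h1, ?_, ?_⟩
  · intro h2
    rw [relIndex_eq_one] at h2
    refine Lib.SmallSimple.false_of_normalizer_le_centralizer hnc (p := p) ?_ P ?_
    · rw [← hx]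
      exact orderOf_dvd_natCard x
    · rw [← hz, centralizer_zpowers']
      exact h2
  · have h2 := (((centralizer ({x} : Set G)).subgroupOf
      (normalizer ((zpowers x : Subgroup G) : Set G)))).card_mul_index
    have h3 : Nat.card ((centralizer ({x} : Set G)).subgroupOf
        (normalizer ((zpowers x : Subgroup G) : Set G))) = Nat.card (centralizer ({x} : Set G)) :=
      Nat.card_congr (Subgroup.subgroupOfEquivOfLe hle).toEquiv
    rw [h3] at h2
    rw [← h2, mul_comm]
    rfl

/-- A non-abelian simple group has no non-trivial homomorphism to the complex units. -/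
theorem perfect_of_simple (hnc : ¬ IsMulCommutative G) (β : G →* ℂˣ) : β = 1 := by
  rcases IsSimpleGroup.eq_bot_or_eq_top_of_normal (MonoidHom.ker β) (MonoidHom.normal_ker β) with h0 | h0
  · exfalso
    apply hnc
    have hinj : Function.Injective β := (MonoidHom.ker_eq_bot_iff β).mp h0
    refine ⟨⟨fun a b => hinj ?_⟩⟩
    rw [map_mul, map_mul, mul_comm]
  · ext g
    have : g ∈ MonoidHom.ker β := by rw [h0]; trivial
    rw [MonoidHom.mem_ker] at this
    rw [this]
    rfl

/-- The action on Sylow subgroups is faithful. -/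
theorem eq_one_of_fix_all [hp : Fact p.Prime] (hn1 : Nat.card (Sylow p G) ≠ 1) {y : G}
    (hy : ∀ Q : Sylow p G, y • Q = Q) : y = 1 := by
  rcases IsSimpleGroup.eq_bot_or_eq_top_of_normal (MonoidHom.ker (MulAction.toPermHom G (Sylow p G)))
    (MonoidHom.normal_ker _) with h0 | h0
  · have h1 : y ∈ MonoidHom.ker (MulAction.toPermHom G (Sylow p G)) := by
      rw [MonoidHom.mem_ker]
      ext Q : 1
      exact hy Q
    rw [h0, Subgroup.mem_bot] at h1
    exact h1
  · exfalso
    apply hn1
    obtain ⟨P⟩ : Nonempty (Sylow p G) := inferInstance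
    rw [Nat.card_eq_one_iff_unique]
    refine ⟨⟨fun Q R => ?_⟩, ⟨P⟩⟩
    obtain ⟨g, hg⟩ := MulAction.exists_smul_eq G Q R
    have h1 : g ∈ MonoidHom.ker (MulAction.toPermHom G (Sylow p G)) := by rw [h0]; trivial
    rw [MonoidHom.mem_ker] at h1
    have h2 := congrArg (fun f : Equiv.Perm (Sylow p G) => f Q) h1
    have h3 : g • Q = Q := h2
    rw [← hg, h3]

end Simple

/-- Fixed points modulo the order of the element. -/
theorem fix_modEq_sylow {q : ℕ} [Fact q.Prime] [Fact p.Prime] {y : G} (hy : orderOf y = q) :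
    Nat.card {Q : Sylow p G // y • Q = Q} ≡ Nat.card (Sylow p G) [MOD q] := by
  classical
  haveI : Fintype (Sylow p G) := Fintype.ofFinite _
  let f : Function.End (Sylow p G) := MulAction.toEndHom y
  have hf : f ^ q ^ 1 = 1 := by
    rw [pow_one]
    show (MulAction.toEndHom y : Function.End (Sylow p G)) ^ q = 1
    rw [← map_pow, ← hy, pow_orderOf_eq_one, map_one]
  have h1 := Equiv.Perm.card_fixedPoints_modEq hf
  rw [← Nat.card_eq_fintype_card, ← Nat.card_eq_fintype_card] at h1
  exact h1.symm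

/-- Fixed points modulo `p`. -/
theorem fix_modEq_one [hp : Fact p.Prime] (P : Sylow p G) (hx : orderOf x = p)
    (hz : zpowers x = (P : Subgroup G)) {y : G} (hy : y ∈ centralizer ({x} : Set G)) :
    Nat.card {Q : Sylow p G // y • Q = Q} ≡ 1 [MOD p] := by
  classical
  have hc : y * x = x * y := Subgroup.mem_centralizer_singleton_iff.mp hy
  haveI : Fintype {Q : Sylow p G // y • Q = Q} := Fintype.ofFinite _
  let F := {Q : Sylow p G // y • Q = Q}
  let f : Function.End F := fun Q => ⟨x • Q.1, by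
    rw [← mul_smul, hc, mul_smul, Q.2]⟩
  have hpow : ∀ (k : ℕ) (Q : F), ((f ^ k) Q).1 = x ^ k • Q.1 := by
    intro k
    induction k with
    | zero =>
      intro Q
      simp
      rfl
    | succ k ih =>
      intro Q
      rw [pow_succ]
      show ((f ^ k) (f Q)).1 = _
      rw [ih, pow_succ, mul_smul]
  have hf : f ^ p ^ 1 = 1 := by
    rw [pow_one]
    funext Q
    apply Subtype.ext
    have hxp : x ^ p = 1 := by
      rw [← hx]
      exact pow_orderOf_eq_one x
    rw [hpow, hxp, one_smul]
    rfl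
  have h1 := Equiv.Perm.card_fixedPoints_modEq hf
  rw [← Nat.card_eq_fintype_card, ← Nat.card_eq_fintype_card] at h1
  have hPfix : y • P = P := by
    rw [Sylow.smul_eq_iff_mem_normalizer]
    have h := centralizer_le_normalizer hy
    rw [hz] at h
    exact h
  have h2 : Nat.card (Function.fixedPoints f) = 1 := by
    rw [Nat.card_eq_one_iff_unique]
    refine ⟨⟨?_⟩, ⟨⟨⟨P, hPfix⟩, ?_⟩⟩⟩
    · rintro ⟨⟨Q, hQ⟩, hQf⟩ ⟨⟨R, hR⟩, hRf⟩
      have key : ∀ S : F, f S = S → S.1 = P := by
        intro S hS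
        have h3 : x • S.1 = S.1 := congrArg Subtype.val hS
        have h4 : x ∈ normalizer ((S.1 : Subgroup G) : Set G) :=
          Sylow.smul_eq_iff_mem_normalizer.mp h3
        have h5 : zpowers x ≤ normalizer ((S.1 : Subgroup G) : Set G) := (zpowers_le).2 h4
        have hpg : IsPGroup p (zpowers x) := by
          rw [hz]
          exact P.isPGroup'
        have h6 := (IsPGroup.sylow_mem_fixedPoints_iff hpg).mp
          ((Subgroup.sylow_mem_fixedPoints_iff (zpowers x)).mpr h5)
        rw [hz] at h6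
        have h7 : (P : Subgroup G) = S.1 := by
          apply Subgroup.eq_of_le_of_card_ge h6
          rw [← Lib.SmallSimple.card_sylow_eq p S.1 P]
        exact (Sylow.ext h7).symm
      have h3 := key ⟨Q, hQ⟩ hQf
      have h4 := key ⟨R, hR⟩ hRf
      apply Subtype.ext
      apply Subtype.ext
      exact h3.trans h4.symm
    · apply Subtype.ext
      show x • P = P
      rw [Sylow.smul_eq_iff_mem_normalizer]
      have h : x ∈ normalizer ((zpowers x : Subgroup G) : Set G) :=
        Subgroup.le_normalizer (mem_zpowers x)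
      rw [hz] at h
      exact h
  rw [h2] at h1
  exact h1

/-- Elements fixing all Sylow subgroups. -/
theorem forall_fix_of_card [Fact p.Prime] {y : G}
    (h : Nat.card {Q : Sylow p G // y • Q = Q} = Nat.card (Sylow p G)) (Q : Sylow p G) : y • Q = Q := by
  classical
  haveI : Fintype (Sylow p G) := Fintype.ofFinite _
  by_contra hQ
  have h1 : Fintype.card {Q : Sylow p G // y • Q = Q} < Fintype.card (Sylow p G) :=
    Fintype.card_subtype_lt hQ
  rw [← Nat.card_eq_fintype_card, ← Nat.card_eq_fintype_card, h] at h1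
  exact lt_irrefl _ h1

theorem card_fix_le [Fact p.Prime] {y : G} :
    Nat.card {Q : Sylow p G // y • Q = Q} ≤ Nat.card (Sylow p G) := by
  classical
  haveI : Fintype (Sylow p G) := Fintype.ofFinite _
  rw [Nat.card_eq_fintype_card, Nat.card_eq_fintype_card]
  exact Fintype.card_subtype_le _

section Simple2

variable [IsSimpleGroup G]

/-- If there are `p + 1` Sylow subgroups, the centralizer of a generator has no element of order
different from `p`. -/
theorem card_centralizer_of_succ [hp : Fact p.Prime] (hn : Nat.card (Sylow p G) = p + 1)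
    (P : Sylow p G) (hx : orderOf x = p) (hz : zpowers x = (P : Subgroup G))
    (hsyl : ¬ p ^ 2 ∣ Nat.card G) : Nat.card (centralizer ({x} : Set G)) = p := by
  have hpr := hp.out
  have hall : ∀ q : ℕ, q.Prime → q ∣ Nat.card (centralizer ({x} : Set G)) → q = p := by
    intro q hq hd
    by_contra hne
    haveI : Fact q.Prime := ⟨hq⟩
    obtain ⟨y, hy⟩ := exists_prime_orderOf_dvd_card' (G := centralizer ({x} : Set G)) q hd
    have hy' : orderOf (y : G) = q := by rw [Subgroup.orderOf_coe]; exact hy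
    have h1 := fix_modEq_sylow (p := p) hy'
    have h2 := fix_modEq_one P hx hz y.2
    have h3 := card_fix_le (p := p) (y := (y : G))
    rw [hn] at h1 h3
    have h4 : Nat.card {Q : Sylow p G // (y : G) • Q = Q} = 1 ∨
        Nat.card {Q : Sylow p G // (y : G) • Q = Q} = p + 1 := by
      have h5 : 0 < Nat.card {Q : Sylow p G // (y : G) • Q = Q} := by
        rw [Nat.card_pos_iff]
        refine ⟨⟨⟨P, ?_⟩⟩, inferInstance⟩
        rw [Sylow.smul_eq_iff_mem_normalizer]
        have h := centralizer_le_normalizer y.2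
        rw [hz] at h
        exact h
      have h6 : p ∣ Nat.card {Q : Sylow p G // (y : G) • Q = Q} - 1 :=
        (Nat.modEq_iff_dvd' h5).mp h2.symm
      obtain ⟨k, hk⟩ := h6
      have hk2 : k = 0 ∨ k = 1 := by
        by_contra hcon
        have hk3 : 2 ≤ k := by omega
        have : p * 2 ≤ p * k := Nat.mul_le_mul_left p hk3
        have := hpr.two_le
        omega
      rcases hk2 with rfl | rfl
      · left; omega
      · right; omega
    rcases h4 with h4 | h4
    · rw [h4] at h1
      have h5 : q ∣ p := by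
        have h6 : q ∣ (p + 1) - 1 := (Nat.modEq_iff_dvd' (by omega)).mp h1
        simpa using h6
      exact hne ((Nat.prime_dvd_prime_iff_eq hq hpr).mp h5)
    · have h5 := forall_fix_of_card (p := p) (y := (y : G)) (h4.trans hn.symm)
      have h6 := eq_one_of_fix_all (p := p) (by rw [hn]; have := hpr.pos; omega) h5
      rw [h6, orderOf_one] at hy'
      exact hq.one_lt.ne hy'
  have hxC : x ∈ centralizer ({x} : Set G) := by
    rw [Subgroup.mem_centralizer_singleton_iff]
  have hpd : p ∣ Nat.card (centralizer ({x} : Set G)) := by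
    have := orderOf_dvd_natCard (⟨x, hxC⟩ : centralizer ({x} : Set G))
    rwa [Subgroup.orderOf_mk, hx] at this
  have hpow : ∃ k, Nat.card (centralizer ({x} : Set G)) = p ^ k :=
    ⟨_, Nat.eq_prime_pow_of_unique_prime_dvd Nat.card_pos.ne' (fun {d} hd hdd => hall d hd hdd)⟩
  obtain ⟨k', hk'⟩ := hpow
  have hk2 : k' < 2 := by
    by_contra hcon
    apply hsyl
    have h3 : p ^ 2 ∣ p ^ k' := pow_dvd_pow p (by omega)
    rw [← hk'] at h3
    exact h3.trans (Subgroup.card_subgroup_dvd_card _)
  have hk1 : k' ≠ 0 := by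
    rintro rfl
    rw [hk', pow_zero] at hpd
    exact hpr.one_lt.ne' (Nat.dvd_one.mp hpd)
  have : k' = 1 := by omega
  rw [hk', this, pow_one]

/-- Subgroups of prime power order of the centralizer acting freely. -/
theorem card_dvd_of_free [hp : Fact p.Prime] {q : ℕ} [hq : Fact q.Prime] (P : Sylow p G)
    (hz : zpowers x = (P : Subgroup G)) (Y : Subgroup G)
    (hYq : IsPGroup q Y) (hYc : Y ≤ centralizer ({x} : Set G))
    (hF : ∀ y ∈ Y, orderOf y = q → ∀ Q : Sylow p G, y • Q = Q → Q = P) :
    Nat.card Y ∣ Nat.card (Sylow p G) - 1 := by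
  classical
  let A : Set (Sylow p G) := {Q | Q ≠ P}
  have hfixP : ∀ g ∈ Y, g • P = P := by
    intro g hg
    rw [Sylow.smul_eq_iff_mem_normalizer]
    have h := centralizer_le_normalizer (hYc hg)
    rw [hz] at h
    exact h
  have hA : ∀ g ∈ Y, ∀ Q ∈ A, g • Q ∈ A := by
    intro g hg Q hQ h1
    apply hQ
    have h2 := hfixP g hg
    rw [← h2] at h1
    exact smul_left_cancel g h1
  have horb : ∀ Q ∈ A, Nat.card Y ∣ (MulAction.orbit Y Q).ncard := by
    intro Q hQ
    have h1 : MulAction.stabilizer Y Q = ⊥ := by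
      rw [Subgroup.eq_bot_iff_forall]
      intro u hu
      by_contra hne
      have hu1 : (u : Y) ≠ 1 := hne
      obtain ⟨k, hk⟩ := (IsPGroup.iff_orderOf.mp hYq) u
      have hk0 : k ≠ 0 := by
        rintro rfl
        rw [pow_zero, orderOf_eq_one_iff] at hk
        exact hu1 hk
      obtain ⟨l, rfl⟩ := Nat.exists_eq_succ_of_ne_zero hk0
      have ho : orderOf ((u : G) ^ q ^ l) = q := by
        have h2 : orderOf (u : G) = q ^ (l + 1) := by rw [Subgroup.orderOf_coe]; exact hk
        rw [orderOf_pow' _ (pow_ne_zero _ hq.out.ne_zero), h2, pow_succ,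
          Nat.gcd_eq_right (Dvd.intro _ rfl)]
        exact Nat.mul_div_cancel_left _ (pow_pos hq.out.pos l)
      have hu2 : (u : G) • Q = Q := hu
      have hfix : (u : G) ^ q ^ l • Q = Q := by
        clear ho hk hk0
        induction q ^ l with
        | zero => simp
        | succ m ih => rw [pow_succ, mul_smul, hu2, ih]
      exact hQ (hF _ (Y.pow_mem u.2 _) ho Q hfix)
    have h2 := MulAction.index_stabilizer Y Q
    rw [← h2, h1, Subgroup.index_bot]
  have h3 := Lib.Perm.dvd_ncard_of_orbits Y A hA _ horb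
  have h4 : A.ncard + 1 = Nat.card (Sylow p G) := by
    have h5 : A = {P}ᶜ := by
      ext Q
      simp [A]
    rw [h5, ← Nat.card_coe_set_eq]
    have h6 := Nat.card_congr (Equiv.sumCompl (fun x : Sylow p G => x = P))
    rw [Nat.card_sum] at h6
    have h7 : Nat.card {x : Sylow p G // x = P} = 1 := by simp
    have h8 : Nat.card {x : Sylow p G // ¬ x = P} = Nat.card (({P}ᶜ : Set (Sylow p G)) : Type _) := by
      apply Nat.card_congr
      exact Equiv.subtypeEquivRight (fun x => by simp)
    rw [h7, h8] at h6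
    omega
  have h5 : Nat.card (Sylow p G) - 1 = A.ncard := by omega
  rw [h5]
  exact h3

/-- The case `e = 2`, when the centralizer has even order. -/
theorem two_wrapper (hnc : ¬ IsMulCommutative G) [hp : Fact p.Prime] (hx : orderOf x = p)
    (hsyl : ¬ p ^ 2 ∣ Nat.card G)
    (hN : Nat.card (normalizer ((zpowers x : Subgroup G) : Set G)) =
      2 * Nat.card (centralizer ({x} : Set G))) (hp5 : 5 ≤ p)
    (hinv : 2 ∣ Nat.card (centralizer ({x} : Set G))) :
    ∃ (d d₀ : ℕ) (σ : ℤ), (σ = 1 ∨ σ = -1) ∧ d ∣ Nat.card G ∧ d₀ ∣ Nat.card G ∧ 2 * p ≤ d ∧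
      2 * p ≤ d₀ ∧ ((d : ℤ) ≡ σ [ZMOD p]) ∧ ((d₀ : ℤ) ≡ 2 * σ [ZMOD p]) ∧ (d₀ : ℤ) = d + σ := by
  classical
  haveI : Fintype G := Fintype.ofFinite G
  have hpr := hp.out
  obtain ⟨M, hM⟩ := exists_isPModular p hpr
  obtain ⟨deg, σ, ξ, χ₀, hdeg, hσ, hξB, hχB, hξ1, hχ1, hc1, hc2, hrel, -⟩ :=
    block_two (M := M) hM hx hsyl hN hp5
  haveI : Fact (Nat.Prime 2) := ⟨Nat.prime_two⟩
  obtain ⟨t, ht⟩ := exists_prime_orderOf_dvd_card' (G := centralizer ({x} : Set G)) 2 hinv
  have ht' : orderOf (t : G) = 2 := by rw [Subgroup.orderOf_coe]; exact ht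
  have hp2 : p ≠ 2 := by omega
  have hper := perfect_of_simple hnc (G := G)
  exact ⟨deg ξ, deg χ₀, σ, hσ, (hdeg ξ).2.2, (hdeg χ₀).2.2,
    two_p_le_deg hper hM hx hsyl hp2 ht' t.2 ξ hξB hξ1 (hdeg ξ).1,
    two_p_le_deg hper hM hx hsyl hp2 ht' t.2 χ₀ hχB hχ1 (hdeg χ₀).1, hc1, hc2, hrel⟩

/-- The case `e = p - 1`, when the centralizer has even order. -/
theorem single_wrapper (hnc : ¬ IsMulCommutative G) [hp : Fact p.Prime] (hx : orderOf x = p)
    (hsyl : ¬ p ^ 2 ∣ Nat.card G)
    (hN : Nat.card (normalizer ((zpowers x : Subgroup G) : Set G)) =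
      (p - 1) * Nat.card (centralizer ({x} : Set G))) (hp2 : p ≠ 2)
    (hinv : 2 ∣ Nat.card (centralizer ({x} : Set G))) :
    ∃ (ι : Type u) (_ : Fintype ι) (w : ι → ℤ) (d : ι → ℕ),
      (∀ i, w i ≠ 0) ∧ (∀ i, d i ∣ Nat.card G) ∧ (∀ i, 2 * p ≤ d i) ∧
      (∀ i, ((d i : ℤ) ≡ - w i [ZMOD p])) ∧ ∑ i, w i * d i = 1 ∧ ∑ i, w i * w i = p - 1 := by
  classical
  haveI : Fintype G := Fintype.ofFinite G
  have hpr := hp.out
  obtain ⟨M, hM⟩ := exists_isPModular p hpr
  obtain ⟨deg, w, hdeg, hw1, hnorm, hw0, hreg, hcong⟩ := block_single (M := M) hM hx hsyl hN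
  haveI : Fact (Nat.Prime 2) := ⟨Nat.prime_two⟩
  obtain ⟨t, ht⟩ := exists_prime_orderOf_dvd_card' (G := centralizer ({x} : Set G)) 2 hinv
  have ht' : orderOf (t : G) = 2 := by rw [Subgroup.orderOf_coe]; exact ht
  have hper := perfect_of_simple hnc (G := G)
  have hdeg1 : deg (oneIrr G) = 1 := by
    have h2 : (1 : ℂ) = deg (oneIrr G) := (hdeg (oneIrr G)).1
    exact_mod_cast h2.symm
  let S := {χ : IrrCharacter G // χ ≠ oneIrr G ∧ w χ ≠ 0}
  have hmem : ∀ i : S, i.1 ∈ principalBlock M G := by
    intro i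
    by_contra h
    exact i.2.2 (hw0 _ h)
  have hsplit : ∀ f : IrrCharacter G → ℤ, ∑ χ, w χ * f χ = w (oneIrr G) * f (oneIrr G) +
      ∑ i : S, w i.1 * f i.1 := by
    intro f
    rw [← Finset.add_sum_erase _ _ (Finset.mem_univ (oneIrr G))]
    congr 1
    have h1 : ∑ χ ∈ Finset.univ.filter (fun χ => χ ≠ oneIrr G ∧ w χ ≠ 0), w χ * f χ =
        ∑ χ ∈ Finset.univ.erase (oneIrr G), w χ * f χ := by
      apply Finset.sum_subset
      · intro χ hχ
        simp only [Finset.mem_filter, Finset.mem_univ, true_and] at hχ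
        simp [hχ.1]
      · intro χ hχ hχ'
        simp only [Finset.mem_erase, Finset.mem_univ, and_true] at hχ
        simp only [Finset.mem_filter, Finset.mem_univ, true_and, not_and, not_not] at hχ'
        rw [hχ' hχ, zero_mul]
    rw [← h1]
    exact Finset.sum_subtype _ (by simp) _
  have hdd : ip w (fun χ => (deg χ : ℤ)) = 0 := by
    have h1 := hreg 1 (by simpa using hpr.one_lt.ne')
    simp only [(fun χ : IrrCharacter G => (hdeg χ).1)] at h1
    have h2 : ((ip w (fun χ => (deg χ : ℤ)) : ℤ) : ℂ) = 0 := by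
      simp only [ip]
      push_cast
      exact h1
    exact_mod_cast h2
  refine ⟨S, inferInstance, fun i => w i.1, fun i => deg i.1, fun i => i.2.2, fun i => (hdeg i.1).2.2,
    fun i => two_p_le_deg hper hM hx hsyl hp2 ht' t.2 i.1 (hmem i) i.2.1 (hdeg i.1).1,
    fun i => hcong i.1 (hmem i), ?_, ?_⟩
  · show ∑ i : S, w i.1 * ((deg i.1 : ℕ) : ℤ) = 1
    have h1 := hsplit (fun χ => (deg χ : ℤ))
    have h2 : ∑ χ, w χ * (deg χ : ℤ) = 0 := hdd
    rw [h2, hw1, hdeg1] at h1
    push_cast at h1
    linarith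
  · show ∑ i : S, w i.1 * w i.1 = (p : ℤ) - 1
    have h1 := hsplit w
    have h2 : ∑ χ, w χ * w χ = p := hnorm
    rw [h2, hw1] at h1
    norm_num at h1
    linarith

end Simple2

end Cfsg.Agent.Lib.SmallSimple.BA
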