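import Mathlib
import Cfsg.Agent.Lib.SmallSimple.BlockApply

/-!
The case `e = 2` of the principal block, with all exceptional characters.
-/

set_option autoImplicit false
set_option linter.unusedSectionVars false
set_option linter.style.haveILetI false
set_option linter.unusedSimpArgs false
set_option linter.unnecessarySimpa false
set_option linter.unusedVariables false

open scoped ComplexConjugate
open Subgroup

namespace Cfsg.Agent.Lib.SmallSimple.BB

open Cfsg (classInner IsCharacter IsIrrCharacter IrrCharacter IsClassFunction IsPModular principalBlock)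
open Cfsg.Agent.Lib.Char
open Cfsg.Agent.Lib.Block hiding tr
open Cfsg.Agent.Lib.SmallSimple.Star
open Cfsg.Agent.Lib.SmallSimple.BL

universe u

variable {G : Type u} [Group G] {p : ℕ} {x : G} [Fintype G] {M : Ideal Cfsg.AlgInt} [hp : Fact p.Prime]

set_option maxHeartbeats 2000000 in
open Classical in
/-- The case `e = 2`: the non-exceptional character and the family of exceptional characters. -/
theorem block_two_all (hM : IsPModular p M) (hx : orderOf x = p) (hsyl : ¬ p ^ 2 ∣ Nat.card G)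
    (hN : Nat.card (normalizer ((zpowers x : Subgroup G) : Set G)) =
      2 * Nat.card (centralizer ({x} : Set G))) (hp5 : 5 ≤ p) :
    ∃ (deg : IrrCharacter G → ℕ) (σ : ℤ) (ξ : IrrCharacter G) (S : Finset (IrrCharacter G)),
      (∀ χ : IrrCharacter G, (χ : G → ℂ) 1 = deg χ ∧ deg χ ≠ 0 ∧ deg χ ∣ Nat.card G) ∧
      (σ = 1 ∨ σ = -1) ∧ ξ ≠ oneIrr G ∧ (∀ χ ∈ S, χ ≠ oneIrr G) ∧ (∀ χ ∈ S, χ ≠ ξ) ∧
      ((deg ξ : ℤ) ≡ σ [ZMOD p]) ∧ (∀ χ ∈ S, (deg χ : ℤ) = deg ξ + σ) ∧
      (∀ χ ∈ S, ∀ g : G, ¬ p ∣ orderOf g → (χ : G → ℂ) g = (ξ : G → ℂ) g + σ) ∧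
      p ≤ 2 * S.card + 1 := by
  haveI : Fintype (zpowers x) := Fintype.ofFinite _
  obtain ⟨deg, c, n, hdeg, hc0, hgram, hreg, hone, hdform, hcls, hnt⟩ :=
    block_data (M := M) hM hx hsyl 2 hN
  have hdeg1 : deg (oneIrr G) = 1 := by
    have h2 : (1 : ℂ) = deg (oneIrr G) := (hdeg (oneIrr G)).1
    exact_mod_cast h2.symm
  have hnonrel : ∀ a : Nt x, ∃ b : Nt x, ¬ Rel a.1 b.1 := by
    intro a
    obtain ⟨a₁, -, ha₁⟩ := Finset.exists_mem_notMem_of_card_lt_card
      (s := Finset.univ.filter fun b : Nt x => Rel a.1 b.1) (t := Finset.univ)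
      (by rw [hcls]; omega)
    simp only [Finset.mem_filter, Finset.mem_univ, true_and] at ha₁
    exact ⟨a₁, ha₁⟩
  obtain ⟨a₀⟩ : Nonempty (Nt x) := by
    rw [← Finset.univ_nonempty_iff, ← Finset.card_pos]
    omega
  obtain ⟨a₁, ha₁⟩ := hnonrel a₀
  have hdd : ∀ a : Nt x, ip (c a) (fun χ => (deg χ : ℤ)) = 0 := by
    intro a
    have h1 := hreg a 1 (by simpa using (hp.out).one_lt.ne')
    simp only [(fun χ : IrrCharacter G => (hdeg χ).1)] at h1
    have h2 : ((ip (c a) (fun χ => (deg χ : ℤ)) : ℤ) : ℂ) = 0 := by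
      simp only [ip]
      push_cast
      exact h1
    exact_mod_cast h2
  have hstar := fun (a b : Nt x) (hab : ¬ Rel a.1 b.1) =>
    star_two (fun a : Nt x => c a) (fun χ => (deg χ : ℤ)) (fun a b : Nt x => Rel a.1 b.1) (oneIrr G)
      (fun i => by have := (hdeg i).2.1; omega) (by simp [hdeg1]) hdd
      (fun a b => by rw [hgram]; norm_num)
      (fun a => rel_equiv.refl a.1) (fun a b h => rel_equiv.symm h) hone a b hab
  obtain ⟨ξ, χ₀, σ, hσ, hξ1, hχ1, hne, hv, hdrel, hvξ, hvχ⟩ := hstar a₀ a₁ ha₁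
  have hσ0 : σ ≠ 0 := by rcases hσ with rfl | rfl <;> norm_num
  -- the form of an arbitrary vector
  have hform : ∀ a : Nt x, ∃ X : IrrCharacter G, X ≠ oneIrr G ∧ X ≠ ξ ∧
      c a = σ • (dl X - dl ξ) + (- dl (oneIrr G)) ∧ (deg X : ℤ) = deg ξ + σ := by
    intro a
    obtain ⟨b, hb⟩ := hnonrel a
    obtain ⟨ξ', χ', σ', hσ', hξ1', hχ1', hne', hv', hdrel', hvξ', hvχ'⟩ := hstar a b hb
    have hσ'0 : σ' ≠ 0 := by rcases hσ' with rfl | rfl <;> norm_num
    have h1 : ξ' = ξ := by
      by_contra hcon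
      have h2 : c a₀ ξ' ≠ 0 := by
        rw [hvξ']
        omega
      have h3 : ξ' = χ₀ := by
        by_contra h4
        apply h2
        rw [hv]
        simp [dl, h4, hcon, hξ1']
      have h4 := hvξ' a₁
      rw [h3, hvχ, if_neg ha₁] at h4
      omega
    subst h1
    have h2 : σ' = σ := by
      have h3 := hvξ' a₀
      rw [hvξ] at h3
      omega
    subst h2
    exact ⟨χ', hχ1', hne'.symm, hv', hdrel'⟩
  choose X hX1 hXξ hXv hXd using hform
  have hcard : ((Finset.univ : Finset (Nt x)).card : ℤ) = p - 1 := by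
    have : ((Finset.univ : Finset (Nt x)).card : ℤ) + 1 = p := by exact_mod_cast hnt
    omega
  have hmem : ∀ χ : IrrCharacter G, (∃ a, c a χ ≠ 0) → χ ∈ principalBlock M G := by
    rintro χ ⟨a, ha⟩
    by_contra hχ
    exact ha (hc0 a χ hχ)
  have hξB : ξ ∈ principalBlock M G := hmem ξ ⟨a₀, by rw [hvξ]; omega⟩
  have hXinj : ∀ a b : Nt x, ¬ Rel a.1 b.1 → X a ≠ X b := by
    intro a b hab heq
    have h1 := hgram a b
    rw [if_neg hab] at h1
    have h2 : c a = c b := by
      rw [hXv a, hXv b, heq]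
    rw [h2] at h1
    have h3 := hgram b b
    rw [if_pos (rel_equiv.refl b.1)] at h3
    omega
  refine ⟨deg, σ, ξ, Finset.univ.image X, hdeg, hσ, hξ1, ?_, ?_, ?_, ?_, ?_, ?_⟩
  · intro χ hχ
    obtain ⟨a, -, rfl⟩ := Finset.mem_image.mp hχ
    exact hX1 a
  · intro χ hχ
    obtain ⟨a, -, rfl⟩ := Finset.mem_image.mp hχ
    exact hXξ a
  · have h1 := hdform ξ hξB
    simp only [hvξ] at h1
    rw [Finset.sum_const, nsmul_eq_mul, hcard] at h1
    refine Int.ModEq.symm ((Int.modEq_iff_dvd).mpr ⟨n ξ - σ, ?_⟩)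
    rw [h1]
    ring
  · intro χ hχ
    obtain ⟨a, -, rfl⟩ := Finset.mem_image.mp hχ
    exact hXd a
  · intro χ hχ g hg
    obtain ⟨a, -, rfl⟩ := Finset.mem_image.mp hχ
    have h1 := hreg a g hg
    rw [hXv a] at h1
    have h2 : ∀ χ : IrrCharacter G, (((σ • (dl (X a) - dl ξ) + (- dl (oneIrr G))) χ : ℤ) : ℂ) * (χ : G → ℂ) g =
        (σ : ℂ) * ((if χ = X a then (χ : G → ℂ) g else 0) - (if χ = ξ then (χ : G → ℂ) g else 0)) -
          (if χ = oneIrr G then (χ : G → ℂ) g else 0) := by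
      intro χ
      simp only [Pi.add_apply, Pi.smul_apply, Pi.sub_apply, Pi.neg_apply, smul_eq_mul, dl]
      split_ifs <;> push_cast <;> ring
    rw [Finset.sum_congr rfl fun χ _ => h2 χ, Finset.sum_sub_distrib, ← Finset.mul_sum,
      Finset.sum_sub_distrib, Finset.sum_ite_eq', Finset.sum_ite_eq', Finset.sum_ite_eq'] at h1
    simp only [Finset.mem_univ, if_true] at h1
    have h3 : ((oneIrr G : IrrCharacter G) : G → ℂ) g = 1 := rfl
    rw [h3] at h1
    rcases hσ with rfl | rfl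
    · push_cast at h1 ⊢
      linear_combination h1
    · push_cast at h1 ⊢
      linear_combination (-1 : ℂ) * h1
  · have h1 : (Finset.univ : Finset (Nt x)).card ≤ 2 * (Finset.univ.image X).card := by
      apply Finset.card_le_mul_card_image
      intro χ hχ
      obtain ⟨a, -, rfl⟩ := Finset.mem_image.mp hχ
      rw [← hcls a]
      apply Finset.card_le_card
      intro b hb
      simp only [Finset.mem_filter, Finset.mem_univ, true_and] at hb ⊢
      by_contra h2
      exact hXinj a b h2 hb.symm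
    omega

end Cfsg.Agent.Lib.SmallSimple.BB
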