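import Cfsg.Agent.Lib.SmallSimple.StarLattice
import Cfsg.Agent.Lib.SmallSimple.Basic
import Cfsg.Agent.Lib.SmallSimple.Tools
import Cfsg.Agent.Lib.SelfCentral.Basic
import Cfsg.Agent.Lib.Char.Induced
import Cfsg.Agent.Lib.Char.Ops
import Cfsg.Agent.Lib.Char.Constituent
import Cfsg.Agent.Lib.Char.Integral
import Cfsg.Agent.Lib.Char.Burnside
import Cfsg.Agent.Lib.Degree.Linear

/-!
# Brauer's degree congruences for a self-centralizing subgroup of prime order.

Let `x` have prime order `p` with `C(x) = ⟨x⟩`, `|N(⟨x⟩)| = e p`. From Frobenius reciprocity and the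
T.I. property of `⟨x⟩`, the generalized characters `Ind (λ - 1)` have inner products `e + [λ ~ μ]`,
and the star lemma gives the degree relations.
-/

set_option autoImplicit false
set_option linter.unusedSectionVars false
set_option linter.style.haveILetI false
set_option linter.unusedSimpArgs false
set_option linter.unnecessarySimpa false

open scoped ComplexConjugate
open Subgroup

namespace Cfsg.Agent.Lib.SmallSimple.BL

open Cfsg (classInner IsCharacter IsIrrCharacter IrrCharacter IsClassFunction indFun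
  extendByZero IsGeneralizedCharacter)
open Cfsg.Agent.Lib.Char
open Cfsg.Agent.Lib.SelfCentral
open Cfsg.Agent.Lib.SmallSimple.Star

universe u

variable {G : Type u} [Group G] {p : ℕ} {x : G}

/-- Conjugation on `⟨x⟩` by an element of its normalizer. -/
def cj (g : normalizer ((zpowers x : Subgroup G) : Set G)) : zpowers x ≃* zpowers x where
  toFun u := ⟨(g : G) * u * (g : G)⁻¹, (mem_normalizer_iff.mp g.2 u).mp u.2⟩
  invFun u := ⟨(g : G)⁻¹ * u * g, by
    have h := (mem_normalizer_iff.mp g.2 ((g : G)⁻¹ * u * g)).mpr (by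
      have : (g : G) * ((g : G)⁻¹ * u * g) * (g : G)⁻¹ = u := by group
      rw [this]
      exact u.2)
    exact h⟩
  left_inv u := by
    apply Subtype.ext
    simp only
    group
  right_inv u := by
    apply Subtype.ext
    simp only
    group
  map_mul' a b := by
    apply Subtype.ext
    simp only [coe_mul]
    group

@[simp] theorem cj_coe (g : normalizer ((zpowers x : Subgroup G) : Set G)) (u : zpowers x) :
    ((cj g u : zpowers x) : G) = g * u * (g : G)⁻¹ := rfl

theorem cj_mul (g g' : normalizer ((zpowers x : Subgroup G) : Set G)) (u : zpowers x) :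
    cj (g * g') u = cj g (cj g' u) := by
  apply Subtype.ext
  simp only [cj_coe, coe_mul, mul_inv_rev]
  group

theorem cj_one (u : zpowers x) : cj (1 : normalizer ((zpowers x : Subgroup G) : Set G)) u = u := by
  apply Subtype.ext
  simp

theorem cj_inv_cj (g : normalizer ((zpowers x : Subgroup G) : Set G)) (u : zpowers x) :
    cj g⁻¹ (cj g u) = u := by
  rw [← cj_mul, inv_mul_cancel, cj_one]

theorem cj_cj_inv (g : normalizer ((zpowers x : Subgroup G) : Set G)) (u : zpowers x) :
    cj g (cj g⁻¹ u) = u := by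
  rw [← cj_mul, mul_inv_cancel, cj_one]

/-- A non-trivial element of `⟨x⟩` conjugated into `⟨x⟩`: the conjugator normalizes. -/
theorem mem_normalizer_of_conj (h : Setup p x) [Finite G] {u : G} (hu : u ∈ zpowers x) (hu1 : u ≠ 1)
    {g : G} (hg : g * u * g⁻¹ ∈ zpowers x) :
    g ∈ normalizer ((zpowers x : Subgroup G) : Set G) := by
  have h1 : zpowers u = zpowers x := h.zpowers_eq_of_mem hu hu1
  have hv1 : g * u * g⁻¹ ≠ 1 := by
    intro h0
    apply hu1
    have : u = g⁻¹ * (g * u * g⁻¹) * g := by group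
    rw [this, h0]
    group
  have h2 : zpowers (g * u * g⁻¹) = zpowers x := h.zpowers_eq_of_mem hg hv1
  rw [mem_normalizer_iff]
  intro y
  constructor
  · intro hy
    have hy' : y ∈ zpowers u := by rw [h1]; exact hy
    obtain ⟨k, rfl⟩ := Subgroup.mem_zpowers_iff.mp hy'
    rw [← conj_zpow]
    exact Subgroup.zpow_mem _ hg k
  · intro hy
    have hy' : g * y * g⁻¹ ∈ zpowers (g * u * g⁻¹) := by rw [h2]; exact hy
    obtain ⟨k, hk⟩ := Subgroup.mem_zpowers_iff.mp hy'
    rw [conj_zpow] at hk
    have h3 : y = u ^ k := by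
      have := mul_left_cancel (mul_right_cancel hk)
      exact this.symm
    rw [h3]
    exact Subgroup.zpow_mem _ hu k

section Sums

variable [Fintype G] [Fintype (zpowers x)] [Fintype (normalizer ((zpowers x : Subgroup G) : Set G))]

/-- Values of an induced function on `⟨x⟩`. -/
theorem indFun_on (h : Setup p x) (φ : zpowers x → ℂ) (hφ : φ 1 = 0) (u : zpowers x) :
    indFun (zpowers x) φ u = (Nat.card (zpowers x) : ℂ)⁻¹ *
      ∑ g : normalizer ((zpowers x : Subgroup G) : Set G), φ (cj g u) := by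
  classical
  rw [indFun_apply]
  congr 1
  by_cases hu : u = 1
  · subst hu
    have h1 : ∀ g : G, extendByZero (zpowers x) φ (g⁻¹ * ((1 : zpowers x) : G) * g) = 0 := by
      intro g
      have : g⁻¹ * ((1 : zpowers x) : G) * g = ((1 : zpowers x) : G) := by simp
      rw [this, extendByZero_coe, hφ]
    have h2 : ∀ g : normalizer ((zpowers x : Subgroup G) : Set G), φ (cj g 1) = 0 := by
      intro g
      rw [map_one, hφ]
    rw [Finset.sum_eq_zero (fun g _ => h1 g), Finset.sum_eq_zero (fun g _ => h2 g)]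
  have hu1 : (u : G) ≠ 1 := fun h0 => hu (Subtype.ext h0)
  rw [← Equiv.sum_comp (Equiv.inv G)]
  simp only [Equiv.inv_apply, inv_inv]
  have h1 : ∑ g : G, extendByZero (zpowers x) φ (g * (u : G) * g⁻¹) =
      ∑ g ∈ Finset.univ.filter (· ∈ normalizer ((zpowers x : Subgroup G) : Set G)),
        extendByZero (zpowers x) φ (g * (u : G) * g⁻¹) := by
    rw [Finset.sum_filter_of_ne]
    intro g _ hne
    by_contra hg
    apply hne
    apply extendByZero_of_not_mem
    intro hmem
    exact hg (mem_normalizer_of_conj h u.2 hu1 hmem)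
  rw [h1, Finset.sum_subtype (Finset.univ.filter (· ∈ normalizer ((zpowers x : Subgroup G) : Set G)))
    (p := (· ∈ normalizer ((zpowers x : Subgroup G) : Set G))) (by simp)]
  refine Finset.sum_congr rfl fun g _ => ?_
  have : (g : G) * (u : G) * (g : G)⁻¹ = ((cj g u : zpowers x) : G) := rfl
  rw [this, extendByZero_coe]

/-- The inner product of two induced functions vanishing at `1`. -/
theorem inner_ind (h : Setup p x) (f φ : zpowers x → ℂ) (hf : f 1 = 0) (hφ : φ 1 = 0) :
    classInner (indFun (zpowers x) f) (indFun (zpowers x) φ) =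
      (Nat.card (zpowers x) : ℂ)⁻¹ *
        ∑ g : normalizer ((zpowers x : Subgroup G) : Set G), classInner f (φ ∘ cj g) := by
  classical
  rw [frobenius_reciprocity (zpowers x) f _ (indFun_isClassFunction _ _)]
  simp only [classInner_def, Function.comp]
  congr 1
  calc ∑ u, f u * conj (indFun (zpowers x) φ u)
      = ∑ u, ∑ g : normalizer ((zpowers x : Subgroup G) : Set G),
          (Nat.card (zpowers x) : ℂ)⁻¹ * (f u * conj (φ (cj g u))) := by
        refine Finset.sum_congr rfl fun u _ => ?_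
        rw [indFun_on h φ hφ u, map_mul, map_sum, map_inv₀, Complex.conj_natCast, Finset.mul_sum,
          Finset.mul_sum]
        refine Finset.sum_congr rfl fun g _ => ?_
        ring
    _ = ∑ g : normalizer ((zpowers x : Subgroup G) : Set G), ∑ u,
          (Nat.card (zpowers x) : ℂ)⁻¹ * (f u * conj (φ (cj g u))) := Finset.sum_comm
    _ = _ := by
        refine Finset.sum_congr rfl fun g _ => ?_
        rw [Finset.mul_sum]

end Sums

section Irr

variable [Fintype G]

/-- The trivial function on `⟨x⟩`. -/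
abbrev tr : zpowers x → ℂ := fun _ => 1

theorem zp_comm (a b : zpowers x) : a * b = b * a := by
  obtain ⟨i, hi⟩ := Subgroup.mem_zpowers_iff.mp a.2
  obtain ⟨j, hj⟩ := Subgroup.mem_zpowers_iff.mp b.2
  apply Subtype.ext
  simp only [coe_mul, ← hi, ← hj]
  exact zpow_mul_comm x i j

theorem irr_twist (g : normalizer ((zpowers x : Subgroup G) : Set G)) {μ : zpowers x → ℂ}
    (hμ : IsIrrCharacter (zpowers x) μ) : IsIrrCharacter (zpowers x) (μ ∘ cj g) := by
  classical
  haveI : Fintype (zpowers x) := Fintype.ofFinite _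
  refine isIrr_of_character_norm_one
    (IsCharacter.comp (cj g).toMonoidHom (IsIrrCharacter.isCharacter hμ)) ?_
  have h1 : classInner (μ ∘ cj g) (μ ∘ cj g) = classInner μ μ := by
    simp only [classInner_def]
    congr 1
    exact Equiv.sum_comp (cj g).toEquiv (fun u => μ u * conj (μ u))
  rw [h1, classInner_irr_self hμ]

/-- Two characters of `⟨x⟩` are related if they are conjugate under the normalizer. -/
def Rel (a b : IrrCharacter (zpowers x)) : Prop :=
  ∃ g : normalizer ((zpowers x : Subgroup G) : Set G), (b : zpowers x → ℂ) ∘ cj g = a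

theorem rel_equiv : Equivalence (Rel (x := x)) := by
  refine ⟨fun a => ⟨1, ?_⟩, ?_, ?_⟩
  · funext u
    simp [cj_one]
  · rintro a b ⟨g, hg⟩
    refine ⟨g⁻¹, ?_⟩
    rw [← hg]
    funext u
    simp [cj_cj_inv]
  · rintro a b c ⟨g, hg⟩ ⟨g', hg'⟩
    refine ⟨g' * g, ?_⟩
    rw [← hg, ← hg']
    funext u
    simp [cj_mul]

theorem deg_one (μ : IrrCharacter (zpowers x)) : (μ : zpowers x → ℂ) 1 = 1 :=
  charDegree_eq_one_of_comm zp_comm μ.2

/-- A non-trivial character of `⟨x⟩` is injective. -/
theorem irr_inj (h : Setup p x) (μ : IrrCharacter (zpowers x)) (hμ : (μ : zpowers x → ℂ) ≠ tr)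
    {a b : zpowers x} (hab : (μ : zpowers x → ℂ) a = (μ : zpowers x → ℂ) b) : a = b := by
  by_contra hne
  apply hμ
  have hu1 : ((a * b⁻¹ : zpowers x) : G) ≠ 1 := by
    intro h0
    apply hne
    have : a * b⁻¹ = 1 := Subtype.ext h0
    exact mul_inv_eq_one.mp this
  let φ := Cfsg.Agent.Lib.Degree.linearHom μ (deg_one μ)
  have hu : φ.toHomUnits (a * b⁻¹) = 1 := by
    apply Units.ext
    have hb : φ b * φ b⁻¹ = 1 := by rw [← map_mul, mul_inv_cancel, map_one]
    show φ (a * b⁻¹) = 1
    rw [map_mul]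
    have : φ a = φ b := hab
    rw [this, hb]
  have hz := h.zpowers_eq_of_mem (a * b⁻¹ : zpowers x).2 hu1
  funext v
  have hv : (v : G) ∈ zpowers ((a * b⁻¹ : zpowers x) : G) := by rw [hz]; exact v.2
  obtain ⟨k, hk⟩ := Subgroup.mem_zpowers_iff.mp hv
  have hv2 : v = (a * b⁻¹) ^ k := by
    apply Subtype.ext
    rw [← hk]
    simp
  have h3 : φ.toHomUnits v = 1 := by
    rw [hv2, map_zpow, hu, one_zpow]
  have h4 := congrArg (fun u : ℂˣ => (u : ℂ)) h3
  have h5 : φ v = 1 := by simpa using h4
  exact h5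

/-- The stabilizer of a non-trivial character of `⟨x⟩`. -/
theorem mem_of_stab (h : Setup p x) (μ : IrrCharacter (zpowers x)) (hμ : (μ : zpowers x → ℂ) ≠ tr)
    (g : normalizer ((zpowers x : Subgroup G) : Set G)) (hg : (μ : zpowers x → ℂ) ∘ cj g = μ) :
    (g : G) ∈ zpowers x := by
  have h1 := congrFun hg (⟨x, mem_zpowers x⟩ : zpowers x)
  have h2 := irr_inj h μ hμ h1
  have h3 : (g : G) * x * (g : G)⁻¹ = x := congrArg Subtype.val h2
  have h4 : (g : G) ∈ centralizer ({x} : Set G) := by
    rw [Subgroup.mem_centralizer_singleton_iff]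
    exact mul_inv_eq_iff_eq_mul.mp h3
  rw [h.hC] at h4
  exact h4

/-- The elements of the normalizer which move `b` to `a`. -/
theorem card_fiber (h : Setup p x) (a b : IrrCharacter (zpowers x))
    (hb : (b : zpowers x → ℂ) ≠ tr) (hab : Rel a b) :
    Nat.card {g : normalizer ((zpowers x : Subgroup G) : Set G) //
      (b : zpowers x → ℂ) ∘ cj g = a} = Nat.card (zpowers x) := by
  classical
  obtain ⟨g₀, hg₀⟩ := hab
  have hle : ∀ u : zpowers x, (u : G) ∈ normalizer ((zpowers x : Subgroup G) : Set G) := fun u =>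
    Subgroup.le_normalizer u.2
  have hcomm : ∀ (u : zpowers x) (v : zpowers x), cj (⟨u, hle u⟩ : normalizer ((zpowers x : Subgroup G) : Set G)) v = v := by
    intro u v
    apply Subtype.ext
    have := congrArg Subtype.val (zp_comm u v)
    simp only [coe_mul] at this
    simp only [cj_coe]
    rw [this]
    group
  let f : zpowers x → {g : normalizer ((zpowers x : Subgroup G) : Set G) //
      (b : zpowers x → ℂ) ∘ cj g = a} := fun u => ⟨⟨u, hle u⟩ * g₀, by
    rw [← hg₀]
    funext v
    simp only [Function.comp, cj_mul, hcomm]⟩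
  refine (Nat.card_eq_of_bijective f ⟨?_, ?_⟩).symm
  · intro u v huv
    have h1 := congrArg Subtype.val huv
    have h2 := mul_right_cancel h1
    have h3 : (u : G) = v := congrArg (fun t : normalizer ((zpowers x : Subgroup G) : Set G) => (t : G)) h2
    exact Subtype.ext h3
  · rintro ⟨g, hg⟩
    have h1 : (b : zpowers x → ℂ) ∘ cj (g * g₀⁻¹) = b := by
      funext v
      have h2 := congrFun (hg.trans hg₀.symm) (cj g₀⁻¹ v)
      simp only [Function.comp, cj_cj_inv] at h2
      simp only [Function.comp, cj_mul]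
      exact h2
    have h3 := mem_of_stab h b hb _ h1
    refine ⟨⟨_, h3⟩, ?_⟩
    apply Subtype.ext
    apply Subtype.ext
    simp [f]

/-- The trivial character of `⟨x⟩` as an irreducible character. -/
noncomputable def triv : IrrCharacter (zpowers x) := ⟨tr, isIrrCharacter_one⟩

theorem tr_twist (g : normalizer ((zpowers x : Subgroup G) : Set G)) :
    (tr : zpowers x → ℂ) ∘ cj g = tr := rfl

theorem ne_tr_of_ne (a : IrrCharacter (zpowers x)) (ha : a ≠ triv) :
    (a : zpowers x → ℂ) ≠ tr := fun h0 => ha (Subtype.ext h0)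

theorem ne_triv_of_rel {a b : IrrCharacter (zpowers x)} (ha : a ≠ triv) (hab : Rel a b) :
    b ≠ triv := by
  rintro rfl
  obtain ⟨g, hg⟩ := hab
  apply ne_tr_of_ne a ha
  rw [← hg]
  rfl

/-- Nontrivial characters of `⟨x⟩`. -/
abbrev Nt (x : G) := {a : IrrCharacter (zpowers x) // a ≠ triv}

/-- The orbit of a nontrivial character. -/
theorem card_orbit (h : Setup p x) (a : Nt x) :
    Nat.card (normalizer ((zpowers x : Subgroup G) : Set G)) =
      Nat.card {b : Nt x // Rel a.1 b.1} * Nat.card (zpowers x) := by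
  classical
  let f : normalizer ((zpowers x : Subgroup G) : Set G) → {b : Nt x // Rel a.1 b.1} := fun g =>
    ⟨⟨⟨(a.1 : zpowers x → ℂ) ∘ cj g⁻¹, irr_twist g⁻¹ a.1.2⟩, by
      have hr : Rel a.1 (⟨(a.1 : zpowers x → ℂ) ∘ cj g⁻¹, irr_twist g⁻¹ a.1.2⟩ :
          IrrCharacter (zpowers x)) := ⟨g, by
        funext u
        simp [cj_inv_cj]⟩
      exact ne_triv_of_rel a.2 hr⟩, ⟨g, by
        funext u
        simp [cj_inv_cj]⟩⟩
  refine Lib.SmallSimple.card_eq_of_fibers f _ ?_
  rintro ⟨⟨b, hb⟩, hab⟩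
  rw [← card_fiber h a.1 b (ne_tr_of_ne b hb) hab]
  apply Nat.card_congr
  refine Equiv.subtypeEquivRight fun g => ?_
  constructor
  · intro hg
    have h1 : (a.1 : zpowers x → ℂ) ∘ cj g⁻¹ = b := by
      have := congrArg (fun t : {b : Nt x // Rel a.1 b.1} => ((t.1.1 : IrrCharacter (zpowers x)) : zpowers x → ℂ)) hg
      exact this
    rw [← h1]
    funext u
    simp [cj_inv_cj]
  · intro hg
    apply Subtype.ext
    apply Subtype.ext
    apply Subtype.ext
    show (a.1 : zpowers x → ℂ) ∘ cj g⁻¹ = b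
    rw [← hg]
    funext u
    simp [cj_cj_inv]

theorem card_nt (h : Setup p x) : Nat.card (Nt x) + 1 = p := by
  classical
  haveI : Fintype (zpowers x) := Fintype.ofFinite _
  have h1 := sum_degree_sq (G := zpowers x)
  simp only [deg_one, one_pow] at h1
  rw [Finset.sum_const, Finset.card_univ, nsmul_eq_mul, mul_one, h.card_zpowers] at h1
  have h2 : Fintype.card (IrrCharacter (zpowers x)) = p := by exact_mod_cast h1
  have h3 : Nat.card (Nt x) = Fintype.card (IrrCharacter (zpowers x)) - 1 := by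
    rw [Nat.card_eq_fintype_card, Fintype.card_subtype_compl]
    simp
  have := h.hp.pos
  omega

section Gram

variable [Fintype (zpowers x)] [Fintype (normalizer ((zpowers x : Subgroup G) : Set G))]

/-- The Gram matrix of the functions induced from the nontrivial characters. -/
theorem gram (h : Setup p x) (a b : Nt x) [Decidable (Rel a.1 b.1)] :
    classInner (indFun (zpowers x) ((a.1 : zpowers x → ℂ) - tr))
      (indFun (zpowers x) ((b.1 : zpowers x → ℂ) - tr)) =
      (Nat.card (normalizer ((zpowers x : Subgroup G) : Set G)) : ℂ) * (p : ℂ)⁻¹ +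
        if Rel a.1 b.1 then 1 else 0 := by
  classical
  have hp0 : (p : ℂ) ≠ 0 := by exact_mod_cast h.hp.ne_zero
  rw [inner_ind h _ _ (by simp [deg_one]) (by simp [deg_one]), h.card_zpowers]
  have h1 : ∀ g : normalizer ((zpowers x : Subgroup G) : Set G),
      classInner ((a.1 : zpowers x → ℂ) - tr) (((b.1 : zpowers x → ℂ) - tr) ∘ cj g) =
        (if (b.1 : zpowers x → ℂ) ∘ cj g = a.1 then 1 else 0) + 1 := by
    intro g
    have h2 : ((b.1 : zpowers x → ℂ) - tr) ∘ cj g = (b.1 : zpowers x → ℂ) ∘ cj g - tr := rfl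
    have hb' : (b.1 : zpowers x → ℂ) ∘ cj g ≠ tr := by
      intro h0
      apply ne_tr_of_ne b.1 b.2
      funext u
      have := congrFun h0 (cj g⁻¹ u)
      simpa [cj_cj_inv] using this
    have ha' := ne_tr_of_ne a.1 a.2
    rw [h2, classInner_sub_left, classInner_sub_right, classInner_sub_right,
      classInner_irr a.1.2 (irr_twist g b.1.2), classInner_irr a.1.2 isIrrCharacter_one,
      classInner_irr isIrrCharacter_one (irr_twist g b.1.2),
      classInner_irr isIrrCharacter_one isIrrCharacter_one, if_neg ha', if_neg hb'.symm, if_pos rfl]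
    by_cases h3 : (b.1 : zpowers x → ℂ) ∘ cj g = a.1
    · rw [if_pos h3, if_pos h3.symm]
      ring
    · rw [if_neg h3, if_neg (fun h4 => h3 h4.symm)]
      ring
  simp only [h1]
  rw [Finset.sum_add_distrib, Finset.sum_const, Finset.card_univ, nsmul_eq_mul, mul_one,
    Finset.sum_boole, Fintype.card_eq_nat_card]
  have h2 : ((Finset.univ.filter fun g : normalizer ((zpowers x : Subgroup G) : Set G) =>
      (b.1 : zpowers x → ℂ) ∘ cj g = a.1).card) = Nat.card {g : normalizer ((zpowers x : Subgroup G) : Set G) //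
      (b.1 : zpowers x → ℂ) ∘ cj g = a.1} := by
    rw [Nat.card_eq_fintype_card, Fintype.card_subtype]
  rw [h2]
  by_cases hr : Rel a.1 b.1
  · rw [if_pos hr, card_fiber h a.1 b.1 (ne_tr_of_ne b.1 b.2) hr, h.card_zpowers]
    field_simp
    ring
  · rw [if_neg hr]
    have : IsEmpty {g : normalizer ((zpowers x : Subgroup G) : Set G) //
        (b.1 : zpowers x → ℂ) ∘ cj g = a.1} := ⟨fun g => hr ⟨g.1, g.2⟩⟩
    simp
    ring

end Gram

end Irr

section Main

variable [Fintype G]

/-- Brauer's congruences for a self-centralizing subgroup of prime order. -/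
theorem brauer_main (h : Setup p x) (e : ℕ) (he0 : 0 < e)
    (hN : Nat.card (normalizer ((zpowers x : Subgroup G) : Set G)) = e * p)
    (he1 : e * (e + 2) ≤ p - 1) :
    ∃ (ε : ℤ) (χ₀ : IrrCharacter G) (w : IrrCharacter G → ℤ) (deg : IrrCharacter G → ℕ),
      (∀ χ : IrrCharacter G, (χ : G → ℂ) 1 = deg χ ∧ deg χ ≠ 0 ∧ deg χ ∣ Nat.card G) ∧
      (ε = 1 ∨ ε = -1) ∧ w ⟨fun _ => 1, isIrrCharacter_one⟩ = -1 ∧ w χ₀ = 0 ∧ ip w w = e ∧
      ε * deg χ₀ + ip w (fun χ : IrrCharacter G => (deg χ : ℤ)) = 0 ∧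
      ((deg χ₀ : ℤ) ≡ ε * e [ZMOD p]) ∧
      ∀ χ : IrrCharacter G, w χ ≠ 0 → ((deg χ : ℤ) ≡ - w χ [ZMOD p]) := by
  classical
  haveI : Fintype (zpowers x) := Fintype.ofFinite _
  haveI : Fintype (normalizer ((zpowers x : Subgroup G) : Set G)) := Fintype.ofFinite _
  have hp := h.hp
  have hp0 : (p : ℂ) ≠ 0 := by exact_mod_cast hp.ne_zero
  choose deg hdeg using fun χ : IrrCharacter G => IsIrrCharacter_degree_dvd χ.2
  choose m hm using fun (χ : IrrCharacter G) (l : IrrCharacter (zpowers x)) =>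
    classInner_isCharacter_nat (IsIrrCharacter.isCharacter l.2)
      (IsCharacter.restrict (zpowers x) (IsIrrCharacter.isCharacter χ.2))
  let c : Nt x → IrrCharacter G → ℤ := fun a χ => (m χ a.1 : ℤ) - m χ triv
  let F : Nt x → G → ℂ := fun a => indFun (zpowers x) ((a.1 : zpowers x → ℂ) - tr)
  let d : IrrCharacter G → ℤ := fun χ => (deg χ : ℤ)
  have hF : ∀ (a : Nt x) (χ : IrrCharacter G), classInner (F a) (χ : G → ℂ) = (c a χ : ℂ) := by
    intro a χ
    simp only [F]
    rw [frobenius_reciprocity (zpowers x) _ _ (IsCharacter.isClassFunction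
      (IsIrrCharacter.isCharacter χ.2)), classInner_sub_left, hm]
    have := hm χ triv
    have h2 : classInner (tr : zpowers x → ℂ) (fun u : zpowers x => (χ : G → ℂ) u) = (m χ triv : ℂ) :=
      this
    rw [h2]
    simp [c]
  have hFcl : ∀ a, IsClassFunction G (F a) := fun a => indFun_isClassFunction _ _
  have hrel : Equivalence (fun a b : Nt x => Rel a.1 b.1) :=
    ⟨fun a => rel_equiv.refl a.1, fun h => rel_equiv.symm h, fun h k => rel_equiv.trans h k⟩
  have hgram : ∀ a b : Nt x, ip (c a) (c b) = (e : ℤ) + if Rel a.1 b.1 then 1 else 0 := by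
    intro a b
    have h1 := classInner_eq_sum (F a) (F b) (hFcl a) (hFcl b)
    simp only [hF] at h1
    have h2 := gram h a b
    rw [hN] at h2
    have h3 : ((e * p : ℕ) : ℂ) * (p : ℂ)⁻¹ = e := by
      push_cast
      field_simp
    rw [h3] at h2
    change classInner (F a) (F b) = _ at h2
    rw [h2] at h1
    have h4 : ((ip (c a) (c b) : ℤ) : ℂ) = ((e : ℤ) + if Rel a.1 b.1 then 1 else 0 : ℤ) := by
      push_cast
      rw [h1]
      simp only [ip]
      push_cast
      refine Finset.sum_congr rfl fun χ _ => ?_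
      simp
    exact_mod_cast h4
  have hF1 : ∀ a, F a 1 = 0 := by
    intro a
    have h1 := indFun_on h ((a.1 : zpowers x → ℂ) - tr) (by simp [deg_one]) 1
    simp only [map_one, Pi.sub_apply, deg_one, sub_self, Finset.sum_const_zero, mul_zero] at h1
    exact h1
  have hdd : ∀ a, ip (c a) d = 0 := by
    intro a
    have h1 := congrFun (classFunction_eq_sum (F a) (hFcl a)) 1
    rw [hF1 a, Finset.sum_apply] at h1
    simp only [Pi.smul_apply, smul_eq_mul, hF, (fun χ : IrrCharacter G => (hdeg χ).1)] at h1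
    have h2 : ((ip (c a) d : ℤ) : ℂ) = 0 := by
      simp only [ip, d]
      push_cast
      exact h1.symm
    exact_mod_cast h2
  have hdpos : ∀ i, 0 < d i := fun i => by
    have := (hdeg i).2.1
    simp only [d]
    omega
  -- class sizes
  have hclass : ∀ a : Nt x, Nat.card {b : Nt x // Rel a.1 b.1} = e := by
    intro a
    have h1 := card_orbit h a
    rw [hN, h.card_zpowers] at h1
    exact (Nat.eq_of_mul_eq_mul_right hp.pos h1).symm
  have hcls : ∀ a : Nt x, (Finset.univ.filter fun b : Nt x => Rel a.1 b.1).card = e := by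
    intro a
    rw [← hclass a, Nat.card_eq_fintype_card, Fintype.card_subtype]
  have hnt : Nat.card (Nt x) + 1 = p := card_nt h
  have hntf : (Finset.univ : Finset (Nt x)).card = p - 1 := by
    rw [Finset.card_univ, ← Nat.card_eq_fintype_card]
    omega
  have hlt : 2 * e < p - 1 := by nlinarith
  obtain ⟨a₀⟩ : Nonempty (Nt x) := by
    rw [← Finset.univ_nonempty_iff, ← Finset.card_pos, hntf]
    omega
  obtain ⟨b₁, -, hb₁⟩ := Finset.exists_mem_notMem_of_card_lt_card
    (s := Finset.univ.filter fun b : Nt x => Rel a₀.1 b.1) (t := Finset.univ)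
    (by rw [hcls, hntf]; omega)
  obtain ⟨b₂, -, hb₂⟩ := Finset.exists_mem_notMem_of_card_lt_card
    (s := (Finset.univ.filter fun b : Nt x => Rel a₀.1 b.1) ∪
      (Finset.univ.filter fun b : Nt x => Rel b₁.1 b.1)) (t := Finset.univ)
    (by
      refine lt_of_le_of_lt (Finset.card_union_le _ _) ?_
      rw [hcls, hcls, hntf]
      omega)
  simp only [Finset.mem_union, Finset.mem_filter, Finset.mem_univ, true_and, not_or] at hb₁ hb₂
  obtain ⟨ε, χ, w, hε, hc, hiff, hn⟩ := star_decomp c d (fun a b : Nt x => Rel a.1 b.1) (e : ℤ) hdpos hdd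
    hrel hgram (a₀ := a₀) (b₁ := b₁) (b₂ := b₂) (fun h => hb₁ (rel_equiv.symm h))
    (fun h => hb₂.1 (rel_equiv.symm h)) hb₂.2
  let one : IrrCharacter G := ⟨fun _ => 1, isIrrCharacter_one⟩
  have hone : ∀ a, c a one = -1 := by
    intro a
    have h1 := hm one a.1
    have h2 := hm one triv
    have h3 : classInner (a.1 : zpowers x → ℂ) (fun _ : zpowers x => (1 : ℂ)) = 0 := by
      rw [classInner_irr a.1.2 isIrrCharacter_one, if_neg (ne_tr_of_ne a.1 a.2)]
    have h4 : classInner (tr : zpowers x → ℂ) (fun _ : zpowers x => (1 : ℂ)) = 1 := by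
      rw [classInner_irr isIrrCharacter_one isIrrCharacter_one, if_pos rfl]
    have h5 : (m one a.1 : ℂ) = 0 := by rw [← h1]; exact h3
    have h6 : (m one triv : ℂ) = 1 := by rw [← h2]; exact h4
    have h7 : m one a.1 = 0 := by exact_mod_cast h5
    have h8 : m one triv = 1 := by exact_mod_cast h6
    simp [c, h7, h8]
  have hdist : ∀ a, ∃ b, χ a ≠ χ b := by
    intro a
    obtain ⟨b, -, hb⟩ := Finset.exists_mem_notMem_of_card_lt_card
      (s := Finset.univ.filter fun b : Nt x => Rel a.1 b.1) (t := Finset.univ)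
      (by rw [hcls, hntf]; omega)
    simp only [Finset.mem_filter, Finset.mem_univ, true_and] at hb
    exact ⟨b, fun h0 => hb ((hiff a b).mp h0)⟩
  have himage : (Finset.univ : Finset (Nt x)).card = (Finset.univ.image χ).card * e := by
    rw [Finset.card_eq_sum_card_image χ Finset.univ, Finset.sum_congr rfl (g := fun _ => e),
      Finset.sum_const, smul_eq_mul]
    intro i hi
    rw [Finset.mem_image] at hi
    obtain ⟨a, -, rfl⟩ := hi
    rw [← hcls a]
    congr 1
    ext b
    simp only [Finset.mem_filter, Finset.mem_univ, true_and]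
    constructor
    · intro h0
      exact (hiff a b).mp h0.symm
    · intro h0
      exact ((hiff a b).mpr h0).symm
  have hcard : ((e : ℤ) + 2) ≤ ((Finset.univ.image χ).card : ℤ) := by
    rw [hntf] at himage
    have h1 : e * (e + 2) ≤ (Finset.univ.image χ).card * e := by omega
    rw [mul_comm] at h1
    have h2 := Nat.le_of_mul_le_mul_right h1 he0
    exact_mod_cast h2
  obtain ⟨hw0, hne, hwall, hnorm⟩ := star_vanish c (e : ℤ)
    (by positivity) ε χ w hε hc hn one hone hdist hcard
  -- the degree formula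
  have hdform : ∀ i : IrrCharacter G, (deg i : ℤ) = p * m i triv + ∑ a : Nt x, c a i := by
    intro i
    have h1 := congrFun (classFunction_eq_sum (fun u : zpowers x => (i : G → ℂ) u)
      (IsCharacter.isClassFunction (IsCharacter.restrict (zpowers x)
        (IsIrrCharacter.isCharacter i.2)))) 1
    rw [Finset.sum_apply] at h1
    simp only [Pi.smul_apply, smul_eq_mul, deg_one, mul_one, coe_one] at h1
    rw [(hdeg i).1] at h1
    have h2 : ∀ l : IrrCharacter (zpowers x),
        classInner (fun u : zpowers x => (i : G → ℂ) u) (l : zpowers x → ℂ) = (m i l : ℂ) := by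
      intro l
      rw [← conj_classInner, hm i l, Complex.conj_natCast]
    simp only [h2] at h1
    have h3 : deg i = ∑ l : IrrCharacter (zpowers x), m i l := by exact_mod_cast h1
    rw [Fintype.sum_eq_add_sum_subtype_ne (fun l => m i l) triv] at h3
    have h4 : ∑ a : Nt x, c a i = (∑ a : Nt x, (m i a.1 : ℤ)) - (p - 1 : ℕ) * m i triv := by
      simp only [c]
      rw [Finset.sum_sub_distrib, Finset.sum_const, hntf, nsmul_eq_mul]
    rw [h4, h3]
    have hp1 : ((p - 1 : ℕ) : ℤ) = (p : ℤ) - 1 := by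
      have := hp.pos
      omega
    rw [hp1]
    push_cast
    ring
  have hcval : ∀ a i, c a i = ε * (if i = χ a then 1 else 0) + w i := by
    intro a i
    rw [hc a]
    simp [dl]
  refine ⟨ε, χ a₀, w, deg, hdeg, hε, hw0, hwall a₀, hnorm, ?_, ?_, ?_⟩
  · have h1 := hdd a₀
    rw [hc a₀, ip_add_left] at h1
    have h2 : ip (ε • dl (χ a₀)) d = ε * d (χ a₀) := by
      have : ip (ε • dl (χ a₀)) d = ε * ip (dl (χ a₀)) d := by
        simp [ip, Finset.mul_sum, mul_assoc]
      rw [this, ip_dl_left]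
    rw [h2] at h1
    exact h1
  · have h1 := hdform (χ a₀)
    have h2 : ∑ a : Nt x, c a (χ a₀) = ε * e := by
      simp only [hcval, hwall a₀, add_zero]
      rw [← Finset.mul_sum, Finset.sum_boole]
      congr 2
      rw [← hcls a₀]
      congr 1
      ext b
      simp only [Finset.mem_filter, Finset.mem_univ, true_and]
      exact hiff a₀ b
    rw [h2] at h1
    refine Int.ModEq.symm ((Int.modEq_iff_dvd).mpr ⟨m (χ a₀) triv, ?_⟩)
    rw [h1]
    ring
  · intro i hi
    have h1 := hdform i
    have h2 : ∑ a : Nt x, c a i = ((p - 1 : ℕ) : ℤ) * w i := by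
      have h3 : ∀ a, c a i = w i := by
        intro a
        rw [hcval, if_neg]
        · ring
        · rintro rfl
          exact hi (hwall a)
      simp only [h3]
      rw [Finset.sum_const, hntf, nsmul_eq_mul]
    rw [h2] at h1
    refine Int.ModEq.symm ((Int.modEq_iff_dvd).mpr ⟨m i triv + w i, ?_⟩)
    rw [h1]
    have hp1 : ((p - 1 : ℕ) : ℤ) = (p : ℤ) - 1 := by
      have := hp.pos
      omega
    rw [hp1]
    ring

end Main

section Simple

variable [Fintype G] [IsSimpleGroup G]

/-- In a non-abelian simple group a non-trivial irreducible character has degree greater than one. -/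
theorem degree_ne_one (hnc : ¬ IsMulCommutative G) (ψ : IrrCharacter G)
    (hψ : ψ ≠ ⟨fun _ => 1, isIrrCharacter_one⟩) : (ψ : G → ℂ) 1 ≠ 1 := by
  intro h1
  apply hψ
  apply Subtype.ext
  funext g
  have htop : commutator G = ⊤ := by
    rcases IsSimpleGroup.eq_bot_or_eq_top_of_normal (commutator G) inferInstance with h0 | h0
    · exfalso
      apply hnc
      refine ⟨⟨fun a b => ?_⟩⟩
      have h2 : a * b * a⁻¹ * b⁻¹ ∈ commutator G := by
        rw [_root_.commutator_def]
        exact Subgroup.commutator_mem_commutator (Subgroup.mem_top a) (Subgroup.mem_top b)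
      rw [h0, Subgroup.mem_bot, mul_inv_eq_one, mul_inv_eq_iff_eq_mul] at h2
      exact h2
    · exact h0
  exact Cfsg.Agent.Lib.Degree.irr_linear_commutator ψ h1 (by rw [htop]; trivial)

/-- The case `e = 2`. -/
theorem brauer_two (hnc : ¬ IsMulCommutative G) (h : Setup p x)
    (hN : Nat.card (normalizer ((zpowers x : Subgroup G) : Set G)) = 2 * p) (hp8 : 8 ≤ p - 1) :
    ∃ (d d₀ : ℕ) (δ ε : ℤ), (δ = 1 ∨ δ = -1) ∧ (ε = 1 ∨ ε = -1) ∧ d ∣ Nat.card G ∧ d₀ ∣ Nat.card G ∧
      1 < d ∧ ((d : ℤ) ≡ δ [ZMOD p]) ∧ ((d₀ : ℤ) ≡ ε * 2 [ZMOD p]) ∧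
      ε * d₀ = 1 + δ * d := by
  classical
  obtain ⟨ε, χ₀, w, deg, hdeg, hε, hw1, hw0, hnorm, hrel, hc0, hc⟩ :=
    brauer_main h 2 (by norm_num) hN (by omega)
  set one : IrrCharacter G := ⟨fun _ => 1, isIrrCharacter_one⟩ with hone
  have hdeg1 : deg one = 1 := by
    have := (hdeg one).1
    have h2 : (1 : ℂ) = deg one := this
    exact_mod_cast h2.symm
  let w' : IrrCharacter G → ℤ := fun i => if i = one then 0 else w i
  have hsplit : ∀ f : IrrCharacter G → ℤ, ip w f = w one * f one + ip w' f := by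
    intro f
    unfold ip
    rw [← Finset.add_sum_erase _ _ (Finset.mem_univ one)]
    rw [← Finset.add_sum_erase (a := one) (f := fun i => w' i * f i) _ (Finset.mem_univ one)]
    simp only [w', if_true, zero_mul, zero_add]
    congr 1
    refine Finset.sum_congr rfl fun i hi => ?_
    rw [if_neg (Finset.ne_of_mem_erase hi)]
  have hnorm' : ip w' w' = 1 := by
    have h1 : ip w w = w one * w one + ip w' w := hsplit w
    have h2 : ip w' w = ip w' w' := by
      unfold ip
      refine Finset.sum_congr rfl fun i _ => ?_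
      by_cases hi : i = one
      · simp [w', hi]
      · simp [w', hi]
    rw [hnorm, hw1, h2] at h1
    push_cast at h1
    omega
  obtain ⟨ξ, hξ, hrest⟩ := exists_of_norm_one w' hnorm'
  have hξ1 : ξ ≠ one := by
    rintro rfl
    simp [w'] at hξ
  have hwξ : w ξ = w' ξ := by simp [w', hξ1]
  have hip : ip w (fun χ : IrrCharacter G => (deg χ : ℤ)) = -1 + w' ξ * deg ξ := by
    have h5 : ip w' (fun χ : IrrCharacter G => (deg χ : ℤ)) = w' ξ * deg ξ := by
      unfold ip
      rw [Finset.sum_eq_single ξ]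
      · intro i _ hi
        rw [hrest i hi, zero_mul]
      · intro h0
        exact absurd (Finset.mem_univ _) h0
    rw [hsplit, hw1, h5]
    simp only [hdeg1]
    norm_num
  refine ⟨deg ξ, deg χ₀, - w ξ, ε, ?_, hε, (hdeg ξ).2.2, (hdeg χ₀).2.2, ?_, ?_, ?_, ?_⟩
  · rw [hwξ]
    rcases hξ with h0 | h0 <;> rw [h0] <;> norm_num
  · have h1 := (hdeg ξ).2.1
    have h2 : deg ξ ≠ 1 := by
      intro h3
      apply degree_ne_one hnc ξ hξ1
      rw [(hdeg ξ).1, h3]
      norm_num
    omega
  · apply hc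
    rw [hwξ]
    rcases hξ with h0 | h0 <;> rw [h0] <;> norm_num
  · exact_mod_cast hc0
  · rw [hip] at hrel
    rw [hwξ]
    linarith

/-- The case `e = 3`. -/
theorem brauer_three (hnc : ¬ IsMulCommutative G) (h : Setup p x)
    (hN : Nat.card (normalizer ((zpowers x : Subgroup G) : Set G)) = 3 * p) (hp8 : 15 ≤ p - 1) :
    ∃ (d₁ d₂ d₀ : ℕ) (δ₁ δ₂ ε : ℤ), (δ₁ = 1 ∨ δ₁ = -1) ∧ (δ₂ = 1 ∨ δ₂ = -1) ∧ (ε = 1 ∨ ε = -1) ∧
      d₁ ∣ Nat.card G ∧ d₂ ∣ Nat.card G ∧ d₀ ∣ Nat.card G ∧
      1 < d₁ ∧ 1 < d₂ ∧ ((d₁ : ℤ) ≡ δ₁ [ZMOD p]) ∧ ((d₂ : ℤ) ≡ δ₂ [ZMOD p]) ∧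
      ((d₀ : ℤ) ≡ ε * 3 [ZMOD p]) ∧
      ε * d₀ = 1 + δ₁ * d₁ + δ₂ * d₂ := by
  classical
  obtain ⟨ε, χ₀, w, deg, hdeg, hε, hw1, hw0, hnorm, hrel, hc0, hc⟩ :=
    brauer_main h 3 (by norm_num) hN (by omega)
  set one : IrrCharacter G := ⟨fun _ => 1, isIrrCharacter_one⟩ with hone
  have hdeg1 : deg one = 1 := by
    have := (hdeg one).1
    have h2 : (1 : ℂ) = deg one := this
    exact_mod_cast h2.symm
  let w' : IrrCharacter G → ℤ := fun i => if i = one then 0 else w i
  have hsplit : ∀ f : IrrCharacter G → ℤ, ip w f = w one * f one + ip w' f := by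
    intro f
    unfold ip
    rw [← Finset.add_sum_erase _ _ (Finset.mem_univ one)]
    rw [← Finset.add_sum_erase (a := one) (f := fun i => w' i * f i) _ (Finset.mem_univ one)]
    simp only [w', if_true, zero_mul, zero_add]
    congr 1
    refine Finset.sum_congr rfl fun i hi => ?_
    rw [if_neg (Finset.ne_of_mem_erase hi)]
  have hnorm' : ip w' w' = 2 := by
    have h1 : ip w w = w one * w one + ip w' w := hsplit w
    have h2 : ip w' w = ip w' w' := by
      unfold ip
      refine Finset.sum_congr rfl fun i _ => ?_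
      by_cases hi : i = one
      · simp [w', hi]
      · simp [w', hi]
    rw [hnorm, hw1, h2] at h1
    push_cast at h1
    omega
  obtain ⟨ξ₁, ξ₂, hne, hξ₁, hξ₂, hrest⟩ := exists_of_norm_two w' hnorm'
  have hξ₁1 : ξ₁ ≠ one := by
    rintro rfl
    simp [w'] at hξ₁
  have hξ₂1 : ξ₂ ≠ one := by
    rintro rfl
    simp [w'] at hξ₂
  have hwξ₁ : w ξ₁ = w' ξ₁ := by simp [w', hξ₁1]
  have hwξ₂ : w ξ₂ = w' ξ₂ := by simp [w', hξ₂1]
  have hip : ip w (fun χ : IrrCharacter G => (deg χ : ℤ)) = -1 + (w' ξ₁ * deg ξ₁ + w' ξ₂ * deg ξ₂) := by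
    have h5 : ip w' (fun χ : IrrCharacter G => (deg χ : ℤ)) = w' ξ₁ * deg ξ₁ + w' ξ₂ * deg ξ₂ := by
      unfold ip
      rw [← Finset.sum_subset (Finset.subset_univ {ξ₁, ξ₂}), Finset.sum_pair hne]
      intro i _ hi
      simp only [Finset.mem_insert, Finset.mem_singleton, not_or] at hi
      rw [hrest i hi.1 hi.2, zero_mul]
    rw [hsplit, hw1, h5]
    simp only [hdeg1]
    norm_num
  have hgt : ∀ ξ, ξ ≠ one → 1 < deg ξ := by
    intro ξ hξ1
    have h1 := (hdeg ξ).2.1
    have h2 : deg ξ ≠ 1 := by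
      intro h3
      apply degree_ne_one hnc ξ hξ1
      rw [(hdeg ξ).1, h3]
      norm_num
    omega
  refine ⟨deg ξ₁, deg ξ₂, deg χ₀, - w ξ₁, - w ξ₂, ε, ?_, ?_, hε, (hdeg ξ₁).2.2, (hdeg ξ₂).2.2,
    (hdeg χ₀).2.2, hgt _ hξ₁1, hgt _ hξ₂1, ?_, ?_, ?_, ?_⟩
  · rw [hwξ₁]
    rcases hξ₁ with h0 | h0 <;> rw [h0] <;> norm_num
  · rw [hwξ₂]
    rcases hξ₂ with h0 | h0 <;> rw [h0] <;> norm_num
  · apply hc
    rw [hwξ₁]
    rcases hξ₁ with h0 | h0 <;> rw [h0] <;> norm_num
  · apply hc
    rw [hwξ₂]
    rcases hξ₂ with h0 | h0 <;> rw [h0] <;> norm_num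
  · exact_mod_cast hc0
  · rw [hip] at hrel
    rw [hwξ₁, hwξ₂]
    linarith

end Simple

section Sylow

variable [Fintype G] [IsSimpleGroup G]

/-- If the normalizer of a Sylow subgroup of prime order has order `e p` with `e` prime, then a
generator of the Sylow subgroup is self-centralizing. -/
theorem exists_setup (hnc : ¬ IsMulCommutative G) [hp : Fact p.Prime] (P : Sylow p G)
    (hP : Nat.card (P : Subgroup G) = p) {e : ℕ} (he : e.Prime)
    (hN : Nat.card (normalizer ((P : Subgroup G) : Set G)) = e * p) :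
    ∃ y : G, Setup p y ∧ Nat.card (normalizer ((zpowers y : Subgroup G) : Set G)) = e * p := by
  classical
  have hcyc : IsCyclic (P : Subgroup G) := by
    haveI : Fact (Nat.card (P : Subgroup G)).Prime := ⟨by rw [hP]; exact hp.out⟩
    exact isCyclic_of_prime_card rfl
  obtain ⟨g, hg⟩ := hcyc
  have hz : zpowers (g : G) = (P : Subgroup G) := by
    apply Subgroup.ext
    intro y
    constructor
    · intro hy
      obtain ⟨k, rfl⟩ := Subgroup.mem_zpowers_iff.mp hy
      exact Subgroup.zpow_mem _ g.2 k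
    · intro hy
      obtain ⟨k, hk⟩ := hg ⟨y, hy⟩
      have := congrArg Subtype.val hk
      simp only [SubgroupClass.coe_zpow] at this
      exact ⟨k, this⟩
  have hord : orderOf (g : G) = p := by
    rw [← Nat.card_zpowers, hz, hP]
  refine ⟨g, ⟨hp.out, hord, ?_⟩, by rw [hz, hN]⟩
  -- centralizer
  have hle : centralizer ({(g : G)} : Set G) ≤ normalizer ((P : Subgroup G) : Set G) := by
    intro c hc
    rw [Subgroup.mem_centralizer_singleton_iff] at hc
    rw [mem_normalizer_iff, ← hz]
    intro y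
    constructor
    · intro hy
      obtain ⟨k, rfl⟩ := Subgroup.mem_zpowers_iff.mp hy
      have hcomm : Commute c (g : G) := hc
      have h1 : c * (g : G) ^ k * c⁻¹ = (g : G) ^ k := by
        rw [(hcomm.zpow_right k).eq]
        group
      rw [h1]
      exact Subgroup.zpow_mem _ (mem_zpowers _) k
    · intro hy
      obtain ⟨k, hk⟩ := Subgroup.mem_zpowers_iff.mp hy
      have hcomm : Commute c (g : G) := hc
      have h1 : c * (g : G) ^ k * c⁻¹ = (g : G) ^ k := by
        rw [(hcomm.zpow_right k).eq]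
        group
      have h2 : y = (g : G) ^ k := by
        rw [← h1] at hk
        exact (mul_left_cancel (mul_right_cancel hk)).symm
      rw [h2]
      exact Subgroup.zpow_mem _ (mem_zpowers _) k
  have hge : zpowers (g : G) ≤ centralizer ({(g : G)} : Set G) := by
    rw [Subgroup.zpowers_le, Subgroup.mem_centralizer_singleton_iff]
  have hd1 : p ∣ Nat.card (centralizer ({(g : G)} : Set G)) := by
    have := Subgroup.card_dvd_of_le hge
    rwa [Nat.card_zpowers, hord] at this
  have hd2 : Nat.card (centralizer ({(g : G)} : Set G)) ∣ e * p := by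
    rw [← hN]
    exact Subgroup.card_dvd_of_le hle
  obtain ⟨f, hf⟩ := hd1
  rw [hf, mul_comm e p] at hd2
  have hfd : f ∣ e := Nat.dvd_of_mul_dvd_mul_left hp.out.pos hd2
  rcases (Nat.dvd_prime he).mp hfd with rfl | rfl
  · apply Eq.symm
    apply Subgroup.eq_of_le_of_card_ge hge
    rw [Nat.card_zpowers, hord, hf, mul_one]
  · exfalso
    apply Lib.SmallSimple.false_of_normalizer_le_centralizer hnc
      (p := p) (by
        rw [← (P : Subgroup G).card_mul_index, hP]
        exact dvd_mul_right _ _) P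
    have hNC : normalizer ((P : Subgroup G) : Set G) = centralizer ({(g : G)} : Set G) := by
      symm
      apply Subgroup.eq_of_le_of_card_ge hle
      rw [hN, hf, mul_comm]
    rw [hNC]
    intro c hc
    rw [Subgroup.mem_centralizer_iff]
    intro y hy
    rw [← hz] at hy
    obtain ⟨k, rfl⟩ := Subgroup.mem_zpowers_iff.mp hy
    rw [Subgroup.mem_centralizer_singleton_iff] at hc
    have hcomm : Commute c (g : G) := hc
    exact (hcomm.zpow_right k).eq.symm

/-- A degree prime to `p`. -/
theorem not_dvd_of_modEq {d : ℕ} {r : ℤ} (h : (d : ℤ) ≡ r [ZMOD p]) (hr : ¬ (p : ℤ) ∣ r) :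
    ¬ p ∣ d := by
  intro hd
  apply hr
  have h1 : (p : ℤ) ∣ d := by exact_mod_cast hd
  have h2 := dvd_add h.dvd h1
  simpa using h2

theorem dvd_cofactor {d m : ℕ} (hp : p.Prime) (hd : d ∣ p * m) (hnd : ¬ p ∣ d) : d ∣ m :=
  Nat.Coprime.dvd_of_dvd_mul_left ((Nat.Prime.coprime_iff_not_dvd hp).mpr hnd).symm hd

end Sylow

end Cfsg.Agent.Lib.SmallSimple.BL
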