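import Mathlib
import Cfsg.Agent.Lib.SmallSimple.BlockTwoAll
import Cfsg.Agent.Lib.InvCent.Final
import Cfsg.Agent.S0219
import Cfsg.Agent.Lib.KS2.SL2Unip
import Cfsg.Agent.Lib.Classical.RingCongr
import Cfsg.Agent.Lib.Degree.Linear
import Cfsg.Agent.Lib.Char.DefectZero

/-!
Recognition of `PSL(2, 2^f)` from the principal block data for `e = 2`.
-/

set_option autoImplicit false
set_option linter.unusedSectionVars false
set_option linter.style.haveILetI false
set_option linter.unusedSimpArgs false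
set_option linter.unnecessarySimpa false
set_option linter.unusedVariables false

open scoped ComplexConjugate
open Subgroup

namespace Cfsg.Agent.Lib.SmallSimple.QC

open Cfsg (IrrCharacter)
open Cfsg.Agent.Lib.Char
open Cfsg.Agent.Lib.Block hiding tr

universe u

variable {G : Type u} [Group G]

/-- Recognition of the projective special linear groups from abelian centralizers of involutions. -/
theorem psl_of_inv_cent [Finite G] [IsSimpleGroup G] (hnc : ¬ IsMulCommutative G)
    (heven : Even (Nat.card G))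
    (hinv : ∀ t : G, orderOf t = 2 → IsMulCommutative (centralizer ({t} : Set G)))
    {F' : Type*} [Field F'] [Fintype F']
    (hf : ∀ f : ℕ, 2 ≤ f → 2 ^ f * ((2 ^ f) ^ 2 - 1) = Nat.card G → 2 ^ f = Fintype.card F') :
    Nonempty (G ≃* Matrix.ProjectiveSpecialLinearGroup (Fin 2) F') := by
  classical
  open Cfsg.Agent.Lib.InvCent in
  haveI : Fact (Nat.Prime 2) := ⟨Nat.prime_two⟩
  obtain ⟨P⟩ : Nonempty (Sylow 2 G) := inferInstance
  rcases Cfsg.Agent.Lib.InvCent.hyp_or heven hinv with h1 | h1 | h1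
  · exfalso
    obtain ⟨H, hH⟩ := Cfsg.Agent.S0219.result heven P (h1 P)
    haveI : H.Normal := Subgroup.normal_of_index_eq_two hH
    rcases IsSimpleGroup.eq_bot_or_eq_top_of_normal H ‹_› with h2 | h2
    · rw [h2, Subgroup.index_bot] at hH
      haveI : Fact (Nat.card G).Prime := ⟨by rw [hH]; exact Nat.prime_two⟩
      haveI : IsCyclic G := isCyclic_of_prime_card rfl
      exact hnc IsCyclic.commutative
    · rw [h2, Subgroup.index_top] at hH
      omega
  · exfalso
    have hne : (P : Subgroup G) ≠ ⊥ := P.ne_bot_of_dvd_card heven.two_dvd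
    haveI := h1 P
    rcases IsSimpleGroup.eq_bot_or_eq_top_of_normal (P : Subgroup G) ‹_› with h2 | h2
    · exact hne h2
    · have hp : IsPGroup 2 G := by
        intro g
        obtain ⟨k, hk⟩ := P.isPGroup' ⟨g, by rw [h2]; trivial⟩
        exact ⟨k, congrArg Subtype.val hk⟩
      haveI : Nontrivial (Subgroup.center G) := hp.center_nontrivial
      have hc : Subgroup.center G ≠ ⊥ := (Subgroup.nontrivial_iff_ne_bot _).1 inferInstance
      rcases IsSimpleGroup.eq_bot_or_eq_top_of_normal (Subgroup.center G) inferInstance with h3 | h3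
      · exact hc h3
      · apply hnc
        refine ⟨⟨fun a b => ?_⟩⟩
        have h4 : a ∈ Subgroup.center G := by rw [h3]; trivial
        exact (Subgroup.mem_center_iff.1 h4 b).symm
  · obtain ⟨F, iF, iT, f, A, iA, iFA, hf2, hF, hc, hodd, ⟨φ⟩⟩ := h1.main
    haveI := hc
    let ρ : G →* Matrix.SpecialLinearGroup (Fin 2) F := (MonoidHom.fst _ _).comp φ.toMonoidHom
    haveI : ρ.ker.Normal := inferInstance
    rcases IsSimpleGroup.eq_bot_or_eq_top_of_normal ρ.ker inferInstance with h2 | h2
    · have hbij : Function.Bijective ρ := by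
        constructor
        · rw [← MonoidHom.ker_eq_bot_iff]
          exact h2
        · intro y
          refine ⟨φ.symm (y, 1), ?_⟩
          show (φ (φ.symm (y, 1))).1 = y
          rw [MulEquiv.apply_symm_apply]
      have e1 : Nat.card G = Nat.card (Matrix.SpecialLinearGroup (Fin 2) F) :=
        Nat.card_congr (MulEquiv.ofBijective ρ hbij).toEquiv
      have e2 := Cfsg.Agent.Lib.KS2.SL2.card_SL2 (F := F)
      rw [hF] at e2
      have e3 := hf f hf2 (by rw [e1, e2])
      have e4 : F ≃+* F' := FiniteField.ringEquivOfCardEq (by rw [hF, e3])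
      exact ⟨(MulEquiv.ofBijective ρ hbij).trans
        (Cfsg.Agent.Lib.InvCent.equivPSL.trans (Cfsg.Agent.Lib.Classical.RC.pslCongr e4))⟩
    · exfalso
      apply hnc
      refine ⟨⟨fun a b => ?_⟩⟩
      have ha : ρ a = 1 := by
        have : a ∈ ρ.ker := by rw [h2]; trivial
        exact this
      have hb : ρ b = 1 := by
        have : b ∈ ρ.ker := by rw [h2]; trivial
        exact this
      apply φ.injective
      rw [map_mul, map_mul]
      apply Prod.ext
      · show (φ a).1 * (φ b).1 = (φ b).1 * (φ a).1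
        have ha' : (φ a).1 = 1 := ha
        have hb' : (φ b).1 = 1 := hb
        rw [ha', hb']
      · show (φ a).2 * (φ b).2 = (φ b).2 * (φ a).2
        exact mul_comm _ _

/-- A non-trivial irreducible character of a non-abelian simple group has degree different from one. -/
theorem deg_ne_one [Finite G] [IsSimpleGroup G] (hnc : ¬ IsMulCommutative G) {χ : IrrCharacter G}
    (hχ : χ ≠ oneIrr G) : (χ : G → ℂ) 1 ≠ 1 := by
  intro h
  apply hχ
  have h1 := Lib.SmallSimple.BA.perfect_of_simple hnc (Cfsg.Agent.Lib.Degree.linearHom χ h).toHomUnits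
  apply Subtype.ext
  funext g
  have h2 := congrArg (fun u : ℂˣ => (u : ℂ)) (DFunLike.congr_fun h1 g)
  show (χ : G → ℂ) g = 1
  simpa using h2

/-- Vanishing of an irreducible character of full `r`-part. -/
theorem vanish_of_dvd [Finite G] (χ : IrrCharacter G) {d : ℕ} (hd : (χ : G → ℂ) 1 = d) {r : ℕ}
    (hr : r.Prime) {b m : ℕ} (hn : Nat.card G = r ^ b * m) (hm : ¬ r ∣ m) (hb : r ^ b ∣ d) {y : G}
    (hy : r ∣ orderOf y) : (χ : G → ℂ) y = 0 := by
  apply irr_eq_zero_of_full_ppart χ r hr _ hy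
  rw [Cfsg.Agent.Lib.Char.charDegree_natCast hd]
  have hm0 : m ≠ 0 := by
    rintro rfl
    exact hm (dvd_zero r)
  have : (Nat.card G).factorization r = b := by
    rw [hn, Nat.factorization_mul (pow_ne_zero _ hr.ne_zero) hm0]
    simp [Nat.Prime.factorization hr, Nat.factorization_eq_zero_of_not_dvd hm]
  rw [this]
  exact hb

/-- The centralizer of an element of prime order `p` when normalizers of Sylow subgroups have order `2 p`. -/
theorem card_cent_of_norm [Finite G] [IsSimpleGroup G] (hnc : ¬ IsMulCommutative G) {p : ℕ} [hp : Fact p.Prime]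
    (hsyl : ∀ Q : Sylow p G, Nat.card (Q : Subgroup G) = p)
    (hnorm : ∀ Q : Sylow p G, Nat.card (normalizer ((Q : Subgroup G) : Set G)) = 2 * p)
    {y : G} (hy : orderOf y = p) :
    Nat.card (centralizer ({y} : Set G)) = p ∧
      Nat.card (normalizer ((zpowers y : Subgroup G) : Set G)) =
        2 * Nat.card (centralizer ({y} : Set G)) := by
  have hpos := hp.out.pos
  have hzp : IsPGroup p (zpowers y) := by
    apply IsPGroup.of_card (n := 1)
    rw [Nat.card_zpowers, hy, pow_one]
  obtain ⟨Q, hQ⟩ := hzp.exists_le_sylow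
  have hz : zpowers y = (Q : Subgroup G) := by
    apply Subgroup.eq_of_le_of_card_ge hQ
    rw [Nat.card_zpowers, hy, hsyl Q]
  obtain ⟨e, he, he1, hNe⟩ := Lib.SmallSimple.BA.norm_data hnc Q (hsyl Q) hy hz
  have h2 := hnorm Q
  rw [← hz, hNe] at h2
  have hyC : y ∈ centralizer ({y} : Set G) := by
    rw [Subgroup.mem_centralizer_singleton_iff]
  have hpd : p ∣ Nat.card (centralizer ({y} : Set G)) := by
    have := orderOf_dvd_natCard (⟨y, hyC⟩ : centralizer ({y} : Set G))
    rwa [Subgroup.orderOf_mk, hy] at this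
  obtain ⟨k, hk⟩ := hpd
  rw [hk] at h2 ⊢
  have h3 : e * k = 2 := by
    apply Nat.eq_of_mul_eq_mul_left hpos
    calc p * (e * k) = e * (p * k) := by ring
      _ = 2 * p := h2
      _ = p * 2 := by ring
  have h4 : e ∣ 2 := ⟨k, h3.symm⟩
  have h5 : e = 2 := by
    rcases (Nat.dvd_prime Nat.prime_two).1 h4 with h | h
    · exact absurd h he1
    · exact h
  subst h5
  have h6 : k = 1 := by omega
  subst h6
  refine ⟨by simp, ?_⟩
  rw [hNe, hk]

/-- No element has order divisible by both `2` and `p` when `C(y) = ⟨y⟩`. -/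
theorem no_two_p [Finite G] {p : ℕ} (hp : p.Prime) (hp2 : p ≠ 2)
    (hC : ∀ y : G, orderOf y = p → Nat.card (centralizer ({y} : Set G)) = p) (g : G)
    (h2 : 2 ∣ orderOf g) (hpg : p ∣ orderOf g) : False := by
  have hg0 : orderOf g ≠ 0 := (orderOf_pos g).ne'
  have hy : orderOf (g ^ (orderOf g / p)) = p := orderOf_pow_orderOf_div hg0 hpg
  have ht : orderOf (g ^ (orderOf g / 2)) = 2 := orderOf_pow_orderOf_div hg0 h2
  have hc : g ^ (orderOf g / 2) ∈ centralizer ({g ^ (orderOf g / p)} : Set G) := by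
    rw [Subgroup.mem_centralizer_singleton_iff]
    exact ((Commute.refl g).pow_pow _ _).eq
  have hd := orderOf_dvd_natCard (⟨_, hc⟩ : centralizer ({g ^ (orderOf g / p)} : Set G))
  rw [Subgroup.orderOf_mk, ht, hC _ hy] at hd
  have := (Nat.prime_dvd_prime_iff_eq Nat.prime_two hp).1 hd
  exact hp2 this.symm

open Classical in
/-- The recognition data from the block. -/
theorem inv_cent_of_block [Fintype G] (a m : ℕ) (hcard : Nat.card G = 2 ^ a * m) (hm : ¬ 2 ∣ m)
    (deg : IrrCharacter G → ℕ) (hdeg : ∀ χ : IrrCharacter G, (χ : G → ℂ) 1 = deg χ)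
    (σ : ℤ) (hσ : σ = 1 ∨ σ = -1) (ξ : IrrCharacter G) (S : Finset (IrrCharacter G))
    (hξ1 : ξ ≠ oneIrr G) (hS1 : ∀ χ ∈ S, χ ≠ oneIrr G) (hSξ : ∀ χ ∈ S, χ ≠ ξ)
    (D : ℕ) (hD : ∀ χ ∈ S, deg χ = D)
    (hξv : ∀ g : G, 2 ∣ orderOf g → (ξ : G → ℂ) g = 0)
    (hSv : ∀ χ ∈ S, ∀ g : G, 2 ∣ orderOf g → (χ : G → ℂ) g = σ)
    (hmix : ∀ (g : G) (r : ℕ), r.Prime → r ≠ 2 → 2 ∣ orderOf g → ¬ r ∣ orderOf g)
    (hbound : 2 ^ a ≤ 2 * (1 + S.card))
    (hne : 1 + σ * D * S.card ≠ 0) :
    ∀ t : G, orderOf t = 2 → IsMulCommutative (centralizer ({t} : Set G)) := by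
  classical
  haveI : Fact (Nat.Prime 2) := ⟨Nat.prime_two⟩
  -- elements of the centralizer of a two-singular element have no odd prime in their order
  have hA : ∀ g : G, 2 ∣ orderOf g → ∀ y ∈ centralizer ({g} : Set G), ∀ r : ℕ, r.Prime → r ≠ 2 →
      ¬ r ∣ orderOf y := by
    intro g hg y hy r hr hr2 hry
    have hg0 : orderOf g ≠ 0 := (orderOf_pos g).ne'
    have hy0 : orderOf y ≠ 0 := (orderOf_pos y).ne'
    have ho1 : orderOf (g ^ (orderOf g / 2)) = 2 := orderOf_pow_orderOf_div hg0 hg
    have ho2 : orderOf (y ^ (orderOf y / r)) = r := orderOf_pow_orderOf_div hy0 hry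
    have hcom : Commute y g := Subgroup.mem_centralizer_singleton_iff.1 hy
    have hc2 : Commute (g ^ (orderOf g / 2)) (y ^ (orderOf y / r)) :=
      (hcom.symm.pow_pow _ _)
    have hcop : Nat.Coprime (orderOf (g ^ (orderOf g / 2))) (orderOf (y ^ (orderOf y / r))) := by
      rw [ho1, ho2]
      exact (Nat.coprime_primes Nat.prime_two hr).2 (Ne.symm hr2)
    have ho3 := hc2.orderOf_mul_eq_mul_orderOf_of_coprime hcop
    rw [ho1, ho2] at ho3
    exact hmix _ r hr hr2 (by rw [ho3]; exact dvd_mul_right _ _) (by rw [ho3]; exact dvd_mul_left _ _)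
  have hpow : ∀ g : G, 2 ∣ orderOf g → ∀ y ∈ centralizer ({g} : Set G), ∃ k, orderOf y = 2 ^ k := by
    intro g hg y hy
    refine ⟨_, Nat.eq_prime_pow_of_unique_prime_dvd (orderOf_pos y).ne' ?_⟩
    intro r hr hry
    by_contra hr2
    exact hA g hg y hy r hr hr2 hry
  have hle : ∀ g : G, 2 ∣ orderOf g → Nat.card (centralizer ({g} : Set G)) ≤ 2 ^ a := by
    intro g hg
    have hpg : IsPGroup 2 (centralizer ({g} : Set G)) := by
      intro y
      obtain ⟨k, hk⟩ := hpow g hg y y.2
      refine ⟨k, ?_⟩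
      rw [← hk]
      exact Subtype.ext (by simpa using pow_orderOf_eq_one (y : G))
    obtain ⟨n, hn⟩ := IsPGroup.iff_card.1 hpg
    have h1 : Nat.card (centralizer ({g} : Set G)) ∣ 2 ^ a * m := by
      rw [← hcard]
      exact Subgroup.card_subgroup_dvd_card _
    have h2 : Nat.Coprime (Nat.card (centralizer ({g} : Set G))) m := by
      rw [hn]
      exact Nat.Coprime.pow_left _ ((Nat.prime_two.coprime_iff_not_dvd).2 hm)
    exact Nat.le_of_dvd (by positivity) (h2.dvd_of_dvd_mul_right h1)
  have hSnot1 : oneIrr G ∉ S := fun h => hS1 _ h rfl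
  have hξS : ξ ∉ S := fun h => hSξ _ h rfl
  have hconj : ∀ g g' : G, 2 ∣ orderOf g → 2 ∣ orderOf g' → IsConj g g' := by
    intro g g' hg hg'
    by_contra hc
    have hc' : ¬ IsConj g' g := fun h => hc h.symm
    have o1 := second_orthogonality' g g
    have o2 := second_orthogonality' g' g'
    have o3 := second_orthogonality' g g'
    have o4 := second_orthogonality' g' g
    rw [if_pos (IsConj.refl _)] at o1 o2
    rw [if_neg hc] at o3
    rw [if_neg hc'] at o4
    let f : IrrCharacter G → ℂ := fun χ => (χ : G → ℂ) g + (χ : G → ℂ) g'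
    have hf1 : ∑ χ : IrrCharacter G, ((Complex.normSq (f χ) : ℝ) : ℂ) =
        (Nat.card (centralizer ({g} : Set G)) : ℂ) + (Nat.card (centralizer ({g'} : Set G)) : ℂ) := by
      rw [← o1, ← o2]
      have : ∀ χ : IrrCharacter G, ((Complex.normSq (f χ) : ℝ) : ℂ) =
          (χ : G → ℂ) g * conj ((χ : G → ℂ) g) + (χ : G → ℂ) g' * conj ((χ : G → ℂ) g') +
          ((χ : G → ℂ) g * conj ((χ : G → ℂ) g') + (χ : G → ℂ) g' * conj ((χ : G → ℂ) g)) := by
        intro χ
        rw [← Complex.mul_conj]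
        simp only [f, map_add]
        ring
      simp only [this, Finset.sum_add_distrib, o3, o4]
      simp
    have hf2 : ∑ χ : IrrCharacter G, (Complex.normSq (f χ) : ℝ) =
        (Nat.card (centralizer ({g} : Set G)) : ℝ) + (Nat.card (centralizer ({g'} : Set G)) : ℝ) := by
      exact_mod_cast hf1
    -- degrees
    have hg1 : ¬ IsConj g 1 := by
      intro h
      have h := isConj_one_right.1 h.symm
      rw [h] at hg
      simp at hg
    have hg1' : ¬ IsConj g' 1 := by
      intro h
      have h := isConj_one_right.1 h.symm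
      rw [h] at hg'
      simp at hg'
    have d1 := second_orthogonality' g 1
    have d2 := second_orthogonality' g' 1
    rw [if_neg hg1] at d1
    rw [if_neg hg1'] at d2
    have hdd : ∑ χ : IrrCharacter G, f χ * (deg χ : ℂ) = 0 := by
      have : ∀ χ : IrrCharacter G, f χ * (deg χ : ℂ) =
          (χ : G → ℂ) g * conj ((χ : G → ℂ) 1) + (χ : G → ℂ) g' * conj ((χ : G → ℂ) 1) := by
        intro χ
        rw [hdeg χ]
        simp [f]
        ring
      simp only [this, Finset.sum_add_distrib, d1, d2]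
      simp
    let T : Finset (IrrCharacter G) := insert (oneIrr G) S
    have hfone : f (oneIrr G) = 2 := by
      show ((oneIrr G : IrrCharacter G) : G → ℂ) g + ((oneIrr G : IrrCharacter G) : G → ℂ) g' = 2
      have h1 : ((oneIrr G : IrrCharacter G) : G → ℂ) g = 1 := rfl
      have h2 : ((oneIrr G : IrrCharacter G) : G → ℂ) g' = 1 := rfl
      rw [h1, h2]
      norm_num
    have hfS : ∀ χ ∈ S, f χ = 2 * (σ : ℂ) := by
      intro χ hχ
      show (χ : G → ℂ) g + (χ : G → ℂ) g' = _
      rw [hSv χ hχ g hg, hSv χ hχ g' hg']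
      ring
    have hfξ : f ξ = 0 := by
      show (ξ : G → ℂ) g + (ξ : G → ℂ) g' = 0
      rw [hξv g hg, hξv g' hg']
      simp
    have hdeg1 : deg (oneIrr G) = 1 := by
      have h2 : (1 : ℂ) = deg (oneIrr G) := hdeg (oneIrr G)
      exact_mod_cast h2.symm
    -- there is a character outside `T` on which `f` does not vanish
    have hex : ∃ χ₀, χ₀ ∉ T ∧ f χ₀ ≠ 0 := by
      by_contra hno
      push Not at hno
      have h1 : ∑ χ : IrrCharacter G, f χ * (deg χ : ℂ) = ∑ χ ∈ T, f χ * (deg χ : ℂ) := by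
        symm
        apply Finset.sum_subset (Finset.subset_univ _)
        intro χ _ hχ
        rw [hno χ hχ, zero_mul]
      rw [h1, Finset.sum_insert hSnot1, hfone, hdeg1] at hdd
      have h2 : ∑ χ ∈ S, f χ * (deg χ : ℂ) = S.card * (2 * (σ : ℂ) * (D : ℂ)) := by
        rw [Finset.sum_congr rfl (fun χ hχ => by rw [hfS χ hχ, hD χ hχ])]
        simp
      rw [h2] at hdd
      have h3 : ((1 + σ * D * S.card : ℤ) : ℂ) = 0 := by
        push_cast
        have h4 : (2 : ℂ) ≠ 0 := by norm_num
        apply mul_left_cancel₀ h4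
        rw [mul_zero]
        push_cast at hdd
        linear_combination hdd
      exact hne (by exact_mod_cast h3)
    obtain ⟨χ₀, hχ₀T, hχ₀⟩ := hex
    have hnormS : ∀ χ ∈ T, Complex.normSq (f χ) = 4 := by
      intro χ hχ
      rcases Finset.mem_insert.1 hχ with rfl | hχ
      · rw [hfone]
        norm_num [Complex.normSq_apply]
      · rw [hfS χ hχ]
        rcases hσ with rfl | rfl <;> norm_num [Complex.normSq_apply]
    have hsum : (4 : ℝ) * (1 + S.card) < ∑ χ : IrrCharacter G, Complex.normSq (f χ) := by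
      rw [← Finset.sum_sdiff (Finset.subset_univ T), Finset.sum_congr rfl hnormS]
      have h1 : ∑ _χ ∈ T, (4 : ℝ) = 4 * (1 + S.card) := by
        simp only [Finset.sum_const, T, Finset.card_insert_of_notMem hSnot1, nsmul_eq_mul]
        push_cast
        ring
      rw [h1]
      have h2 : 0 < ∑ χ ∈ Finset.univ \ T, Complex.normSq (f χ) := by
        apply Finset.sum_pos' (fun χ _ => Complex.normSq_nonneg _)
        exact ⟨χ₀, Finset.mem_sdiff.2 ⟨Finset.mem_univ _, hχ₀T⟩, Complex.normSq_pos.2 hχ₀⟩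
      linarith
    rw [hf2] at hsum
    have h1 : (Nat.card (centralizer ({g} : Set G)) : ℝ) ≤ 2 ^ a := by
      exact_mod_cast hle g hg
    have h2 : (Nat.card (centralizer ({g'} : Set G)) : ℝ) ≤ 2 ^ a := by
      exact_mod_cast hle g' hg'
    have h3 : ((2 : ℝ) ^ a) ≤ 2 * (1 + S.card) := by
      exact_mod_cast hbound
    linarith
  intro t ht
  have ht2 : 2 ∣ orderOf t := by rw [ht]
  have hsq : ∀ y ∈ centralizer ({t} : Set G), y * y = 1 := by
    intro y hy
    by_cases hy1 : y = 1
    · rw [hy1, one_mul]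
    obtain ⟨k, hk⟩ := hpow t ht2 y hy
    have hk0 : k ≠ 0 := by
      rintro rfl
      rw [pow_zero, orderOf_eq_one_iff] at hk
      exact hy1 hk
    have h2y : 2 ∣ orderOf y := by
      rw [hk]
      exact dvd_pow_self 2 hk0
    have h3 : orderOf y = 2 := by
      obtain ⟨c, hc⟩ := isConj_iff.1 (hconj y t h2y ht2)
      rw [← ht, ← hc]
      exact ((MulAut.conj c).orderOf_eq y).symm
    have h4 := pow_orderOf_eq_one y
    rw [h3] at h4
    rw [← pow_two]
    exact h4
  refine ⟨⟨fun a b => ?_⟩⟩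
  apply Subtype.ext
  show (a : G) * (b : G) = (b : G) * (a : G)
  have h1 := hsq _ (a * b).2
  have h2 := hsq _ a.2
  have h3 := hsq _ b.2
  push_cast at h1
  have ha : (a : G)⁻¹ = a := inv_eq_of_mul_eq_one_left h2
  have hb : (b : G)⁻¹ = b := inv_eq_of_mul_eq_one_left h3
  have hab : ((a : G) * (b : G))⁻¹ = (a : G) * (b : G) := inv_eq_of_mul_eq_one_left h1
  rw [mul_inv_rev, ha, hb] at hab
  exact hab.symm

end Cfsg.Agent.Lib.SmallSimple.QC
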