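import Mathlib

/-!
# A lattice lemma: families of integer vectors with Gram matrix `e + δ`.

Integer vectors `c a` indexed by `a : A`, with degree condition and inner products
`e + [r a b]`, for an equivalence relation `r` with at least three classes, are of the form
`ε • δ_(χ a) + w`.
-/

set_option autoImplicit false

namespace Cfsg.Agent.Lib.SmallSimple.Star

variable {I A : Type*} [Fintype I] [DecidableEq I]

/-- Indicator function of a point. -/
def dl (X : I) : I → ℤ := fun i => if i = X then 1 else 0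

/-- Standard inner product. -/
def ip (f g : I → ℤ) : ℤ := ∑ i, f i * g i

theorem ip_comm (f g : I → ℤ) : ip f g = ip g f := by
  simp [ip, mul_comm]

theorem ip_sub_left (f f' g : I → ℤ) : ip (f - f') g = ip f g - ip f' g := by
  simp [ip, sub_mul, Finset.sum_sub_distrib]

theorem ip_sub_right (f g g' : I → ℤ) : ip f (g - g') = ip f g - ip f g' := by
  simp [ip, mul_sub, Finset.sum_sub_distrib]

theorem ip_add_left (f f' g : I → ℤ) : ip (f + f') g = ip f g + ip f' g := by
  simp [ip, add_mul, Finset.sum_add_distrib]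

theorem ip_add_right (f g g' : I → ℤ) : ip f (g + g') = ip f g + ip f g' := by
  simp [ip, mul_add, Finset.sum_add_distrib]

theorem ip_neg_left (f g : I → ℤ) : ip (-f) g = - ip f g := by
  simp [ip, Finset.sum_neg_distrib]

theorem ip_neg_right (f g : I → ℤ) : ip f (-g) = - ip f g := by
  simp [ip, Finset.sum_neg_distrib]

theorem ip_dl_right (f : I → ℤ) (X : I) : ip f (dl X) = f X := by
  simp [ip, dl]

theorem ip_dl_left (f : I → ℤ) (X : I) : ip (dl X) f = f X := by
  rw [ip_comm, ip_dl_right]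

theorem ip_dl_dl (X Y : I) : ip (dl X) (dl Y) = if X = Y then 1 else 0 := by
  rw [ip_dl_right]
  simp [dl, eq_comm]

theorem ip_self_nonneg (f : I → ℤ) : 0 ≤ ip f f := by
  unfold ip
  exact Finset.sum_nonneg fun i _ => mul_self_nonneg _

theorem eq_zero_of_ip_self (f : I → ℤ) (h : ip f f = 0) : f = 0 := by
  funext i
  have h1 := (Finset.sum_eq_zero_iff_of_nonneg (fun i _ => mul_self_nonneg (f i))).mp h i
    (Finset.mem_univ i)
  simpa using h1

theorem single_le_ip (f : I → ℤ) (X : I) : f X * f X ≤ ip f f :=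
  Finset.single_le_sum (f := fun i => f i * f i) (fun i _ => mul_self_nonneg _) (Finset.mem_univ X)

theorem pair_le_ip (f : I → ℤ) {X Y : I} (h : X ≠ Y) : f X * f X + f Y * f Y ≤ ip f f := by
  have := Finset.sum_le_sum_of_subset_of_nonneg (Finset.subset_univ {X, Y})
    (f := fun i => f i * f i) (fun _ _ _ => mul_self_nonneg _)
  rwa [Finset.sum_pair h] at this

/-- A vector of norm one. -/
theorem exists_of_norm_one (v : I → ℤ) (h : ip v v = 1) :
    ∃ X, (v X = 1 ∨ v X = -1) ∧ ∀ i, i ≠ X → v i = 0 := by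
  obtain ⟨X, hX⟩ : ∃ X, v X ≠ 0 := by
    by_contra hcon
    push Not at hcon
    have : v = 0 := funext hcon
    rw [this] at h
    simp [ip] at h
  refine ⟨X, ?_, ?_⟩
  · have h1 := single_le_ip v X
    rw [h] at h1
    have h2 : v X ≤ 1 := by nlinarith
    have h3 : -1 ≤ v X := by nlinarith
    omega
  · intro i hi
    by_contra hne
    have h1 := pair_le_ip v hi
    rw [h] at h1
    have h2 : 0 < v i * v i := mul_self_pos.mpr hne
    have h3 : 0 < v X * v X := mul_self_pos.mpr hX
    omega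

/-- A vector of norm two. -/
theorem exists_of_norm_two (v : I → ℤ) (h : ip v v = 2) :
    ∃ X Y, X ≠ Y ∧ (v X = 1 ∨ v X = -1) ∧ (v Y = 1 ∨ v Y = -1) ∧ ∀ i, i ≠ X → i ≠ Y → v i = 0 := by
  obtain ⟨X, hX⟩ : ∃ X, v X ≠ 0 := by
    by_contra hcon
    push Not at hcon
    have : v = 0 := funext hcon
    rw [this] at h
    simp [ip] at h
  have hX' : v X = 1 ∨ v X = -1 := by
    have h1 := single_le_ip v X
    rw [h] at h1
    have h2 : v X ≤ 1 := by nlinarith
    have h3 : -1 ≤ v X := by nlinarith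
    omega
  obtain ⟨Y, hY, hYX⟩ : ∃ Y, v Y ≠ 0 ∧ Y ≠ X := by
    by_contra hcon
    push Not at hcon
    have h0 : ip v v = v X * v X := by
      unfold ip
      rw [Finset.sum_eq_single X]
      · intro i _ hi
        have : v i = 0 := by
          by_contra hne
          exact hi (hcon i hne)
        rw [this]; simp
      · intro hn
        exact absurd (Finset.mem_univ _) hn
    rw [h] at h0
    rcases hX' with h1 | h1 <;> rw [h1] at h0 <;> norm_num at h0
  have hY' : v Y = 1 ∨ v Y = -1 := by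
    have h1 := single_le_ip v Y
    rw [h] at h1
    have h2 : v Y ≤ 1 := by nlinarith
    have h3 : -1 ≤ v Y := by nlinarith
    omega
  refine ⟨X, Y, hYX.symm, hX', hY', ?_⟩
  intro i hiX hiY
  by_contra hne
  have h1 : ∑ j ∈ ({X, Y, i} : Finset I), v j * v j ≤ ip v v :=
    Finset.sum_le_sum_of_subset_of_nonneg (Finset.subset_univ _) (fun _ _ _ => mul_self_nonneg _)
  rw [Finset.sum_insert (by simp [hYX.symm, hiX.symm]), Finset.sum_insert (by simp [hiY.symm]),
    Finset.sum_singleton, h] at h1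
  have h2 : 0 < v i * v i := mul_self_pos.mpr hne
  rcases hX' with h3 | h3 <;> rcases hY' with h4 | h4 <;> rw [h3, h4] at h1 <;> omega

/-- A vector of norm two and degree zero is a difference of two indicators. -/
theorem norm_two_split (v d : I → ℤ) (hd : ∀ i, 0 < d i) (h2 : ip v v = 2) (h0 : ip v d = 0) :
    ∃ X Y, X ≠ Y ∧ v = dl X - dl Y := by
  obtain ⟨X, Y, hXY, hX, hY, hrest⟩ := exists_of_norm_two v h2
  have hval : ip v d = v X * d X + v Y * d Y := by
    unfold ip
    rw [← Finset.sum_subset (Finset.subset_univ {X, Y}), Finset.sum_pair hXY]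
    intro i _ hi
    simp only [Finset.mem_insert, Finset.mem_singleton, not_or] at hi
    rw [hrest i hi.1 hi.2, zero_mul]
  rw [hval] at h0
  have hdX := hd X
  have hdY := hd Y
  rcases hX with h3 | h3 <;> rcases hY with h4 | h4 <;> rw [h3, h4] at h0
  · exfalso; omega
  · refine ⟨X, Y, hXY, ?_⟩
    funext i
    simp only [Pi.sub_apply, dl]
    by_cases hiX : i = X
    · subst hiX
      simp [hXY, h3]
    · by_cases hiY : i = Y
      · subst hiY
        simp [hiX, h4]
      · simp [hiX, hiY, hrest i hiX hiY]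
  · refine ⟨Y, X, hXY.symm, ?_⟩
    funext i
    simp only [Pi.sub_apply, dl]
    by_cases hiX : i = X
    · subst hiX
      simp [hXY, h3]
    · by_cases hiY : i = Y
      · subst hiY
        simp [hiX, h4]
      · simp [hiX, hiY, hrest i hiX hiY]
  · exfalso; omega

variable (c : A → I → ℤ) (d : I → ℤ) (r : A → A → Prop) [DecidableRel r] (e : ℤ)

/-- The first case: a common positive part. -/
theorem star_case {a₀ : A} {X : I} (h0 : ∀ a, r a a₀ → c a = c a₀)
    (hX : ∀ a, ¬ r a a₀ → ∃ Y, c a - c a₀ = dl X - dl Y) :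
    ∃ χ : A → I, ∀ a, c a = (c a₀ + dl X) - dl (χ a) := by
  classical
  have h : ∀ a, ∃ Y, c a = (c a₀ + dl X) - dl Y := by
    intro a
    by_cases ha : r a a₀
    · refine ⟨X, ?_⟩
      rw [h0 a ha]
      abel
    · obtain ⟨Y, hY⟩ := hX a ha
      refine ⟨Y, ?_⟩
      rw [sub_eq_iff_eq_add] at hY
      rw [hY]
      abel
  choose χ hχ using h
  exact ⟨χ, hχ⟩

/-- The main form of the star lemma. -/
theorem star_decomp (hd : ∀ i, 0 < d i) (hdeg : ∀ a, ip (c a) d = 0) (hr : Equivalence r)
    (hgram : ∀ a b, ip (c a) (c b) = e + if r a b then 1 else 0)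
    {a₀ b₁ b₂ : A} (h1 : ¬ r b₁ a₀) (h2 : ¬ r b₂ a₀) (h3 : ¬ r b₁ b₂) :
    ∃ (ε : ℤ) (χ : A → I) (w : I → ℤ), (ε = 1 ∨ ε = -1) ∧
      (∀ a, c a = ε • dl (χ a) + w) ∧ (∀ a b, χ a = χ b ↔ r a b) ∧
      (∀ a, 2 * ε * w (χ a) + ip w w = e) := by
  classical
  -- equal vectors on a class
  have hdiag : ∀ a, ip (c a) (c a) = e + 1 := by
    intro a
    rw [hgram, if_pos (hr.refl a)]
  have hsame : ∀ a b, r a b → c a = c b := by
    intro a b hab
    have : ip (c a - c b) (c a - c b) = 0 := by
      rw [ip_sub_left, ip_sub_right, ip_sub_right, hdiag, hdiag, hgram a b, ip_comm (c b) (c a),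
        hgram a b, if_pos hab]
      ring
    have := eq_zero_of_ip_self _ this
    exact sub_eq_zero.mp this
  have hsplit : ∀ a b, ¬ r a b → ∃ X Y, X ≠ Y ∧ c a - c b = dl X - dl Y := by
    intro a b hab
    apply norm_two_split _ d hd
    · rw [ip_sub_left, ip_sub_right, ip_sub_right, hdiag, hdiag, hgram a b, ip_comm (c b) (c a),
        hgram a b, if_neg hab]
      ring
    · rw [ip_sub_left, hdeg, hdeg, sub_zero]
  have hinner : ∀ a b, ¬ r a a₀ → ¬ r b a₀ → ¬ r a b → ip (c a - c a₀) (c b - c a₀) = 1 := by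
    intro a b h5 h6 hab
    rw [ip_sub_left, ip_sub_right, ip_sub_right, hgram a b, hgram a a₀, ip_comm (c a₀) (c b),
      hgram b a₀, hdiag, if_neg hab, if_neg h5, if_neg h6]
    ring
  have hidl : ∀ X Y X' Y' : I, ip (dl X - dl Y) (dl X' - dl Y') =
      (if X = X' then 1 else 0) - (if X = Y' then 1 else 0) - (if Y = X' then 1 else 0)
        + (if Y = Y' then 1 else 0) := by
    intro X Y X' Y'
    rw [ip_sub_left, ip_sub_right, ip_sub_right, ip_dl_dl, ip_dl_dl, ip_dl_dl, ip_dl_dl]
    ring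
  -- the split of `b₁`, `b₂`
  obtain ⟨X₁, Y₁, hne₁, hv₁⟩ := hsplit b₁ a₀ h1
  obtain ⟨X₂, Y₂, hne₂, hv₂⟩ := hsplit b₂ a₀ h2
  have hprod := hinner b₁ b₂ h1 h2 h3
  rw [hv₁, hv₂, hidl] at hprod
  have hcases : (X₁ = X₂ ∧ Y₁ ≠ Y₂) ∨ (X₁ ≠ X₂ ∧ Y₁ = Y₂) := by
    by_cases h5 : X₁ = X₂
    · left
      subst h5
      refine ⟨rfl, ?_⟩
      intro h6
      subst h6
      simp [hne₂, hne₂.symm] at hprod
    · right
      refine ⟨h5, ?_⟩
      by_contra h6
      rw [if_neg h5, if_neg h6] at hprod
      split_ifs at hprod <;> omega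
  -- the iff and norm formula are common to both cases
  have hfinish : ∀ (ε : ℤ) (χ : A → I) (w : I → ℤ), (ε = 1 ∨ ε = -1) →
      (∀ a, c a = ε • dl (χ a) + w) → (∃ (ε : ℤ) (χ : A → I) (w : I → ℤ), (ε = 1 ∨ ε = -1) ∧
      (∀ a, c a = ε • dl (χ a) + w) ∧ (∀ a b, χ a = χ b ↔ r a b) ∧
      (∀ a, 2 * ε * w (χ a) + ip w w = e)) := by
    intro ε χ w hε hc
    have hε0 : ε ≠ 0 := by rcases hε with rfl | rfl <;> norm_num
    have hε2 : ε * ε = 1 := by rcases hε with rfl | rfl <;> norm_num
    refine ⟨ε, χ, w, hε, hc, ?_, ?_⟩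
    · intro a b
      constructor
      · intro hab
        have hcab : c a = c b := by rw [hc a, hc b, hab]
        have := hgram a b
        rw [hcab, hdiag] at this
        by_contra hn
        rw [if_neg hn] at this
        omega
      · intro hab
        have hcab := hsame a b hab
        rw [hc a, hc b] at hcab
        have h7 := congrFun hcab (χ a)
        simp only [Pi.add_apply, Pi.smul_apply, smul_eq_mul, dl, if_true] at h7
        by_contra hn
        rw [if_neg hn] at h7
        omega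
    · intro a
      have h7 := hdiag a
      rw [hc a] at h7
      have hsm : ∀ f : I → ℤ, ip (ε • dl (χ a)) f = ε * f (χ a) := by
        intro f
        have : ip (ε • dl (χ a)) f = ε * ip (dl (χ a)) f := by
          simp [ip, Finset.mul_sum, mul_assoc]
        rw [this, ip_dl_left]
      rw [ip_add_left, ip_add_right, ip_add_right, hsm, hsm, ip_comm w (ε • dl (χ a)), hsm] at h7
      simp only [Pi.add_apply, Pi.smul_apply, smul_eq_mul, dl, if_true, mul_one] at h7
      have : ε * ε = 1 := hε2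
      nlinarith
  -- Case analysis
  have hcase1 : ∀ (c' : A → I → ℤ), (∀ a b, ip (c' a) (c' b) = ip (c a) (c b)) →
      (∀ a b, r a b → c' a = c' b) → ∀ X Y₁ Y₂ : I, Y₁ ≠ Y₂ → X ≠ Y₁ → X ≠ Y₂ →
      c' b₁ - c' a₀ = dl X - dl Y₁ → c' b₂ - c' a₀ = dl X - dl Y₂ →
      (∀ a b, ¬ r a b → ∃ X Y, X ≠ Y ∧ c' a - c' b = dl X - dl Y) →
      ∀ a, ¬ r a a₀ → ∃ Y, c' a - c' a₀ = dl X - dl Y := by
    intro c' hc' hsame' X Y₁ Y₂ hY hXY₁ hXY₂ hv₁' hv₂' hsplit' a ha
    have hinner' : ∀ a b, ¬ r a a₀ → ¬ r b a₀ → ¬ r a b → ip (c' a - c' a₀) (c' b - c' a₀) = 1 := by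
      intro a b h5 h6 hab
      have := hinner a b h5 h6 hab
      rw [ip_sub_left, ip_sub_right, ip_sub_right] at this ⊢
      rw [hc', hc', hc', hc']
      exact this
    obtain ⟨X', Y', hne', hv'⟩ := hsplit' a a₀ ha
    refine ⟨Y', ?_⟩
    rw [hv']
    have hX' : X' = X := by
      by_cases hab₁ : r a b₁
      · have h5 := hsame' a b₁ hab₁
        rw [h5, hv₁'] at hv'
        have h6 := congrFun hv' X'
        simp only [Pi.sub_apply, dl, if_true, if_neg hne'] at h6
        by_contra hn
        rw [if_neg hn] at h6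
        split_ifs at h6 <;> omega
      · by_cases hab₂ : r a b₂
        · have h5 := hsame' a b₂ hab₂
          rw [h5, hv₂'] at hv'
          have h6 := congrFun hv' X'
          simp only [Pi.sub_apply, dl, if_true, if_neg hne'] at h6
          by_contra hn
          rw [if_neg hn] at h6
          split_ifs at h6 <;> omega
        · have h5 := hinner' a b₁ ha h1 hab₁
          have h6 := hinner' a b₂ ha h2 hab₂
          rw [hv', hv₁', hidl] at h5
          rw [hv', hv₂', hidl] at h6
          by_contra hn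
          rw [if_neg hn] at h5 h6
          have h7 : Y' = Y₁ := by
            by_contra h8
            rw [if_neg h8] at h5
            split_ifs at h5 <;> omega
          have h8 : Y' = Y₂ := by
            by_contra h9
            rw [if_neg h9] at h6
            split_ifs at h6 <;> omega
          exact hY (h7.symm.trans h8)
    rw [hX']
  rcases hcases with ⟨rfl, hY⟩ | ⟨hX, rfl⟩
  · have hX := hcase1 c (fun _ _ => rfl) hsame X₁ Y₁ Y₂ hY hne₁ hne₂ hv₁ hv₂ hsplit
    obtain ⟨χ, hχ⟩ := star_case c r (hsame · a₀) hX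
    refine hfinish (-1) χ (c a₀ + dl X₁) (Or.inr rfl) fun a => ?_
    rw [hχ a]
    funext i
    simp only [Pi.add_apply, Pi.sub_apply, Pi.smul_apply, smul_eq_mul]
    ring
  · -- pass to the negatives
    let c' : A → I → ℤ := fun a => - c a
    have hneg : ∀ a b, c' a - c' b = - (c a - c b) := by
      intro a b
      show (- c a) - (- c b) = _
      abel
    have hX := hcase1 c' (fun a b => by simp [c', ip_neg_left, ip_neg_right])
      (fun a b hab => by simp [c', hsame a b hab]) Y₁ X₁ X₂ hX hne₁.symm hne₂.symm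
      (by rw [hneg, hv₁]; abel) (by rw [hneg, hv₂]; abel)
      (fun a b hab => by
        obtain ⟨X, Y, hne, hv⟩ := hsplit a b hab
        exact ⟨Y, X, hne.symm, by rw [hneg, hv]; abel⟩)
    obtain ⟨χ, hχ⟩ := star_case c' r (fun a ha => by simp [c', hsame a a₀ ha]) hX
    refine hfinish 1 χ (-(c' a₀ + dl Y₁)) (Or.inl rfl) fun a => ?_
    have h5 := hχ a
    have h6 : c a = - c' a := by simp [c']
    rw [h6, h5]
    funext i
    simp only [Pi.add_apply, Pi.neg_apply, Pi.sub_apply, Pi.smul_apply, smul_eq_mul]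
    ring

/-- The vanishing part of the star lemma. -/
theorem star_vanish [Fintype A] (he : 0 ≤ e) (ε : ℤ) (χ : A → I) (w : I → ℤ) (hε : ε = 1 ∨ ε = -1)
    (hc : ∀ a, c a = ε • dl (χ a) + w)
    (hn : ∀ a, 2 * ε * w (χ a) + ip w w = e) (i₀ : I) (hi₀ : ∀ a, c a i₀ = -1)
    (hdist : ∀ a, ∃ b, χ a ≠ χ b)
    (hcard : e + 2 ≤ ((Finset.univ.image χ).card : ℤ)) :
    w i₀ = -1 ∧ (∀ a, χ a ≠ i₀) ∧ (∀ a, w (χ a) = 0) ∧ ip w w = e := by
  classical
  have hε0 : ε ≠ 0 := by rcases hε with rfl | rfl <;> norm_num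
  have hε2 : ε * ε = 1 := by rcases hε with rfl | rfl <;> norm_num
  have hne : ∀ a, χ a ≠ i₀ := by
    intro a ha
    obtain ⟨b, hb⟩ := hdist a
    have h1 := hi₀ b
    have h2 := hi₀ a
    rw [hc b] at h1
    rw [hc a] at h2
    simp only [Pi.add_apply, Pi.smul_apply, smul_eq_mul, dl] at h1 h2
    rw [if_neg (by rw [← ha]; exact hb)] at h1
    rw [if_pos ha.symm] at h2
    omega
  have hw0 : w i₀ = -1 := by
    obtain ⟨a, ha⟩ : ∃ a : A, True := by
      by_contra hcon
      push Not at hcon
      have : (Finset.univ.image χ).card = 0 := by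
        rw [Finset.card_eq_zero, Finset.image_eq_empty, Finset.univ_eq_empty_iff]
        exact ⟨fun a => hcon a⟩
      rw [this] at hcard
      push_cast at hcard
      omega
    have h1 := hi₀ a
    rw [hc a] at h1
    simp only [Pi.add_apply, Pi.smul_apply, smul_eq_mul, dl] at h1
    rw [if_neg (Ne.symm (hne a))] at h1
    omega
  set s := Finset.univ.image χ with hs
  obtain ⟨a₀⟩ : Nonempty A := by
    by_contra hcon
    have : IsEmpty A := not_nonempty_iff.mp hcon
    have : s.card = 0 := by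
      rw [Finset.card_eq_zero, hs, Finset.image_eq_empty, Finset.univ_eq_empty_iff]
      exact this
    rw [this] at hcard
    push_cast at hcard
    omega
  set v := ε * w (χ a₀) with hv
  have hall : ∀ a, ε * w (χ a) = v := by
    intro a
    have h1 := hn a
    have h2 := hn a₀
    rw [hv]
    nlinarith
  have hsq : ∀ a, w (χ a) * w (χ a) = v * v := by
    intro a
    rw [← hall a]
    calc w (χ a) * w (χ a) = (ε * ε) * (w (χ a) * w (χ a)) := by rw [hε2, one_mul]
      _ = ε * w (χ a) * (ε * w (χ a)) := by ring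
  have hnot : i₀ ∉ s := by
    rw [hs, Finset.mem_image]
    rintro ⟨a, -, ha⟩
    exact hne a ha
  have hbound : 1 + (s.card : ℤ) * (v * v) ≤ ip w w := by
    have h1 : ∑ i ∈ insert i₀ s, w i * w i ≤ ip w w :=
      Finset.sum_le_sum_of_subset_of_nonneg (Finset.subset_univ _)
        (fun _ _ _ => mul_self_nonneg _)
    rw [Finset.sum_insert hnot, hw0] at h1
    have h2 : ∑ i ∈ s, w i * w i = (s.card : ℤ) * (v * v) := by
      rw [Finset.sum_congr rfl (g := fun _ => v * v), Finset.sum_const, nsmul_eq_mul]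
      intro i hi
      rw [hs, Finset.mem_image] at hi
      obtain ⟨a, -, rfl⟩ := hi
      exact hsq a
    rw [h2] at h1
    linarith
  have hv0 : v = 0 := by
    by_contra hv1
    have h1 : 1 ≤ v * v := by
      have : 0 < v * v := mul_self_pos.mpr hv1
      omega
    have h2 := hn a₀
    have h3 : 2 * ε * w (χ a₀) = 2 * v := by rw [hv]; ring
    rw [h3] at h2
    have h4 : (e + 2) * (v * v) ≤ (s.card : ℤ) * (v * v) :=
      mul_le_mul_of_nonneg_right hcard (by positivity)
    nlinarith [sq_nonneg (v + 1)]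
  have hwall : ∀ a, w (χ a) = 0 := by
    intro a
    have h1 := hall a
    rw [hv0] at h1
    rcases mul_eq_zero.mp h1 with h2 | h2
    · exact absurd h2 hε0
    · exact h2
  refine ⟨hw0, hne, hwall, ?_⟩
  have h1 := hn a₀
  rw [hwall a₀] at h1
  linarith

end Cfsg.Agent.Lib.SmallSimple.Star
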